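import Cfsg.Agent.H671.Link
import Cfsg.Agent.H33.IM
import Cfsg.Agent.H459.Rad
import Cfsg.Agent.S0188
import Cfsg.Agent.S4782
import Cfsg.Agent.H664.R1.PSLTwo
import Cfsg.Agent.ClassicalGeometry.PSL2Solvable
import Mathlib.Combinatorics.SimpleGraph.Clique

/-!
# Non-solvable groups whose degree graph has no triangle: the frame (helper988, TEAM DEG)

* `adj_iff`, `not_cliqueFree` : edges and triangles in terms of `IM`;
* `im_prod`, `im_of_two` (after helper680): products of degrees of commuting normal subgroups;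
* `frame` : `G` non-solvable, `Δ(G)` without triangle, `FactTri`: there are normal subgroups `R ≤ K`, `R` the solvable
  radical, `K / R ≅ PSL(2,F)` with trivial centralizer in `G / R`.
-/

set_option autoImplicit false

namespace Cfsg.Agent.H988.DG

open Cfsg Subgroup Cfsg.Agent.H33 Cfsg.Agent.H459.Rad

universe u v

theorem adj_iff {G : Type u} [Group G] {p q : ℕ} :
    (degreeGraph G).Adj p q ↔ p ≠ q ∧ p.Prime ∧ q.Prime ∧ H33.IM (p * q) G := by
  constructor
  · rintro ⟨h, hp, hq, d, ⟨χ, rfl⟩, hd⟩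
    exact ⟨h, hp, hq, χ, hd⟩
  · rintro ⟨h, hp, hq, χ, hd⟩
    exact ⟨h, hp, hq, _, ⟨χ, rfl⟩, hd⟩

theorem mem_dp_iff {G : Type u} [Group G] {p : ℕ} : p ∈ degreePrimes G ↔ p.Prime ∧ H33.IM p G := by
  constructor
  · rintro ⟨hp, d, ⟨χ, rfl⟩, hd⟩
    exact ⟨hp, χ, hd⟩
  · rintro ⟨hp, χ, hd⟩
    exact ⟨hp, _, ⟨χ, rfl⟩, hd⟩

theorem im_mono {G : Type u} [Group G] {m n : ℕ} (h : H33.IM n G) (hmn : m ∣ n) : H33.IM m G := by
  obtain ⟨χ, hχ⟩ := h
  exact ⟨χ, hmn.trans hχ⟩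

/-- A triangle. -/
theorem not_cliqueFree {G : Type u} [Group G] {p q r : ℕ} (hp : p.Prime) (hq : q.Prime) (hr : r.Prime) (hpq : p ≠ q)
    (hqr : q ≠ r) (hpr : p ≠ r) (h1 : H33.IM (p * q) G) (h2 : H33.IM (q * r) G) (h3 : H33.IM (p * r) G) :
    ¬ (degreeGraph G).CliqueFree 3 := by
  intro h
  refine h {p, q, r} ?_
  rw [SimpleGraph.is3Clique_triple_iff]
  exact ⟨adj_iff.2 ⟨hpq, hp, hq, h1⟩, adj_iff.2 ⟨hpr, hp, hr, h3⟩, adj_iff.2 ⟨hqr, hq, hr, h2⟩⟩

theorem not_cliqueFree_of_dvd {G : Type u} [Group G] {p q r : ℕ} (hp : p.Prime) (hq : q.Prime) (hr : r.Prime) (hpq : p ≠ q)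
    (hqr : q ≠ r) (hpr : p ≠ r) (h1 : H33.IM (p * q * r) G) : ¬ (degreeGraph G).CliqueFree 3 :=
  not_cliqueFree hp hq hr hpq hqr hpr (im_mono h1 (Dvd.intro _ rfl)) (im_mono h1 ⟨p, by ring⟩) (im_mono h1 ⟨q, by ring⟩)

/-- Product of two groups (helper680). -/
theorem im_prod {A : Type u} {B : Type v} [Group A] [Group B] [Finite A] [Finite B] {a b : ℕ} (hA : H33.IM a A)
    (hB : H33.IM b B) : H33.IM (a * b) (A × B) := by
  obtain ⟨χ, hχ⟩ := hA
  obtain ⟨ψ, hψ⟩ := hB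
  obtain ⟨d, hd⟩ := Cfsg.Agent.Characters.Core.isIrr_apply_one χ.2
  obtain ⟨e, he⟩ := Cfsg.Agent.Characters.Core.isIrr_apply_one ψ.2
  rw [H670.PSing.charDegree_eq_of hd.2] at hχ
  rw [H670.PSing.charDegree_eq_of he.2] at hψ
  refine IM.of_apply_one (n := d * e) (Cfsg.Agent.S0188.isIrr_outer χ.2 ψ.2) ?_ (Nat.mul_dvd_mul hχ hψ)
  change (χ : A → ℂ) 1 * (ψ : B → ℂ) 1 = _
  rw [hd.2, he.2]
  push_cast
  rfl

/-- two commuting normal subgroups with trivial intersection (helper680) -/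
theorem im_of_two {Q : Type u} [Group Q] [Finite Q] (A B : Subgroup Q) [A.Normal] [B.Normal]
    (hAB : ∀ a ∈ A, ∀ b ∈ B, a * b = b * a) (hd : A ⊓ B = ⊥) {a b : ℕ} (hA : H33.IM a A) (hB : H33.IM b B) :
    H33.IM (a * b) Q := by
  let f : A × B →* Q :=
    { toFun := fun x => (x.1 : Q) * x.2
      map_one' := by simp
      map_mul' := fun x y => by
        change (x.1 : Q) * y.1 * (x.2 * y.2) = x.1 * x.2 * (y.1 * y.2)
        have := hAB y.1 y.1.2 x.2 x.2.2
        calc (x.1 : Q) * y.1 * (x.2 * y.2) = x.1 * (y.1 * x.2) * y.2 := by group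
          _ = x.1 * (x.2 * y.1) * y.2 := by rw [this]
          _ = x.1 * x.2 * (y.1 * y.2) := by group }
  have hf : Function.Injective f := by
    rw [injective_iff_map_eq_one]
    rintro ⟨x, y⟩ hxy
    have h1 : (x : Q) * y = 1 := hxy
    have h3 : (x : Q) ∈ B := by
      rw [eq_inv_of_mul_eq_one_left h1]
      exact inv_mem y.2
    have h2 : (x : Q) ∈ A ⊓ B := ⟨x.2, h3⟩
    rw [hd, mem_bot] at h2
    rw [h2, one_mul] at h1
    exact Prod.ext (Subtype.ext h2) (Subtype.ext h1)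
  have hr : f.range = A ⊔ B := by
    apply le_antisymm
    · rintro _ ⟨x, rfl⟩
      exact mul_mem (mem_sup_left x.1.2) (mem_sup_right x.2.2)
    · refine sup_le ?_ ?_
      · intro x hx
        exact ⟨(⟨x, hx⟩, 1), by change x * 1 = x; rw [mul_one]⟩
      · intro x hx
        exact ⟨(1, ⟨x, hx⟩), by change 1 * x = x; rw [one_mul]⟩
  have hn : f.range.Normal := by rw [hr]; infer_instance
  have e : A × B ≃* f.range := MonoidHom.ofInjective hf
  exact ((IM.congr e).1 (im_prod hA hB)).of_normal f.range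

/-- A minimal normal non-solvable subgroup of a group without triangle is a `PSL(2,F)`. -/
theorem l2_of_min (hT : Cfsg.Agent.H671.H5.FactTri.{0}) {Q : Type u} [Group Q] [Finite Q] (h3 : (degreeGraph Q).CliqueFree 3)
    (N : Subgroup Q) (hN : N.Normal) (hmin : ∀ L : Subgroup Q, L.Normal → L ≤ N → L = ⊥ ∨ L = N)
    (hns : ¬ Group.IsSolvable N) : ∃ (F : Type) (_ : Field F) (_ : Fintype F), 4 ≤ Fintype.card F ∧
      Nonempty (N ≃* Matrix.ProjectiveSpecialLinearGroup (Fin 2) F) := by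
  have hNb : N ≠ ⊥ := by
    rintro rfl
    exact hns inferInstance
  have hna : ¬ IsMulCommutative N := fun h => hns (Group.isSolvable_of_comm fun a b => h.is_comm.comm a b)
  obtain ⟨S, iS, iS', k, hk, hS, ⟨e⟩⟩ := H671.Frame.minNormal_pi hN hNb hmin hna
  have hfS : Finite S := by
    have : Finite (Fin k → S) := Finite.of_equiv _ e.toEquiv
    have h0 : Fin k := ⟨0, hk⟩
    exact Finite.of_surjective (fun f : Fin k → S => f h0) fun s => ⟨fun _ => s, rfl⟩
  have hSns : ¬ Group.IsSolvable S := by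
    intro h
    exact hS ⟨⟨fun a b => IsSimpleGroup.comm_iff_isSolvable.2 h a b⟩⟩
  have hup : ∀ m : ℕ, m ∈ charDegrees (Fin k → S) → ∀ n : ℕ, n ∣ m → H33.IM n Q := by
    intro m hm n hn
    obtain ⟨χ, hχ⟩ := hm
    have h1 : H33.IM n (Fin k → S) := ⟨χ, by rw [hχ]; exact hn⟩
    exact ((IM.congr e).2 h1).of_normal N
  by_cases hk2 : 2 ≤ k
  · exfalso
    obtain ⟨p, q, r, hpq, hqr, hpr, ⟨hp, a, ha, hpa⟩, ⟨hq, b, hb, hqb⟩, ⟨hr, c, hc, hrc⟩⟩ := S4782.result hSns
    have hij : (⟨0, by omega⟩ : Fin k) ≠ ⟨1, by omega⟩ := by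
      intro h
      have h5 := congrArg Fin.val h
      exact absurd h5 (by norm_num)
    refine not_cliqueFree hp hq hr hpq hqr hpr ?_ ?_ ?_ h3
    · exact hup _ (H671.Link.pi_mul hij ha hb) _ (Nat.mul_dvd_mul hpa hqb)
    · exact hup _ (H671.Link.pi_mul hij hb hc) _ (Nat.mul_dvd_mul hqb hrc)
    · exact hup _ (H671.Link.pi_mul hij ha hc) _ (Nat.mul_dvd_mul hpa hrc)
  · have hk1 : k = 1 := by omega
    subst hk1
    have e' : N ≃* S := e.trans (MulEquiv.funUnique (Fin 1) S)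
    by_cases hL : H671.H5.IsL2 S
    · obtain ⟨F, iF, iF', hF, ⟨e2⟩⟩ := hL
      exact ⟨F, iF, iF', hF, ⟨e'.trans e2⟩⟩
    · exfalso
      obtain ⟨p, q, r, h1, h2, h4⟩ := hT S hS hL
      have hup' : ∀ {a b : ℕ}, H671.H5.Adj a b S → (degreeGraph Q).Adj a b := by
        intro a b h
        obtain ⟨h5, h6, h7, h8⟩ := adj_iff.1 h
        exact adj_iff.2 ⟨h5, h6, h7, ((IM.congr e').2 h8).of_normal N⟩
      refine h3 {p, q, r} ?_
      rw [SimpleGraph.is3Clique_triple_iff]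
      exact ⟨hup' h1, hup' h4, hup' h2⟩

theorem two_dvd_card_psl {F : Type} [Field F] [Fintype F] (hF : 4 ≤ Fintype.card F) :
    2 ∣ Nat.card (Matrix.ProjectiveSpecialLinearGroup (Fin 2) F) := by
  rcases Nat.even_or_odd (Fintype.card F) with h | h
  · rw [SmallSimple.PSLTwoPart.card_psl_two_even h]
    exact (even_iff_two_dvd.1 h).mul_right _
  · have h1 := SmallSimple.PSLTwoPart.card_psl_two_odd h
    have h2 : 8 ∣ Fintype.card F ^ 2 - 1 := Nat.eight_dvd_sq_sub_one_of_odd h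
    obtain ⟨k, hk⟩ := h2
    rw [hk] at h1
    exact ⟨Fintype.card F * (2 * k), by nlinarith⟩

/-- two odd primes and 2 divide degrees -/
theorem primes_psl {F : Type} [Field F] [Fintype F] (hF : 4 ≤ Fintype.card F) {N : Type u} [Group N] [Finite N]
    (e : N ≃* Matrix.ProjectiveSpecialLinearGroup (Fin 2) F) :
    H33.IM 2 N ∧ ∃ p q : ℕ, p.Prime ∧ q.Prime ∧ p ≠ 2 ∧ q ≠ 2 ∧ p ≠ q ∧ H33.IM p N ∧ H33.IM q N := by
  have hns : ¬ Group.IsSolvable N := by
    intro h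
    refine ClassicalGeometry.PSL2Solvable.not_isSolvable_psl F hF ?_
    exact Group.isSolvable_of_isSolvable_injective (f := e.symm.toMonoidHom) e.symm.injective
  have h2 : 2 ∣ Nat.card N := by
    rw [Nat.card_congr e.toEquiv]
    exact two_dvd_card_psl hF
  constructor
  · rw [IM.congr e]
    refine H664.R1.PSLTwo.im_psl hF Nat.prime_two ?_
    rwa [← Nat.card_congr e.toEquiv]
  · obtain ⟨p, q, r, hpq, hqr, hpr, hp, hq, hr⟩ := S4782.result hns
    rw [mem_dp_iff] at hp hq hr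
    by_cases h1 : p = 2
    · exact ⟨q, r, hq.1, hr.1, fun h => hpq (h1.trans h.symm), fun h => hpr (h1.trans h.symm), hqr, hq.2, hr.2⟩
    · by_cases h3 : q = 2
      · exact ⟨p, r, hp.1, hr.1, h1, fun h => hqr (h3.trans h.symm), hpr, hp.2, hr.2⟩
      · exact ⟨p, q, hp.1, hq.1, h1, h3, hpq, hp.2, hq.2⟩

/-- **The frame.** -/
theorem frame (hT : Cfsg.Agent.H671.H5.FactTri.{0}) {G : Type u} [Group G] [Finite G] (hG : ¬ Group.IsSolvable G)
    (h3 : (degreeGraph G).CliqueFree 3) :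
    ∃ (R K : Subgroup G) (_ : R.Normal) (_ : K.Normal), R ≤ K ∧ Group.IsSolvable R ∧
      (∀ N : Subgroup G, N.Normal → Group.IsSolvable N → N ≤ R) ∧
      ∃ (F : Type) (_ : Field F) (_ : Fintype F), 4 ≤ Fintype.card F ∧
        Nonempty (K.map (QuotientGroup.mk' R) ≃* Matrix.ProjectiveSpecialLinearGroup (Fin 2) F) ∧
        Subgroup.centralizer ((K.map (QuotientGroup.mk' R) : Subgroup (G ⧸ R)) : Set (G ⧸ R)) = ⊥ := by
  classical
  have hRn : (solvableRadical G).Normal := rad_normal G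
  set R := solvableRadical G with hR
  have hrad : solvableRadical (G ⧸ R) = ⊥ := rad_quotient
  have hnc : ∀ N : Subgroup (G ⧸ R), N.Normal → Group.IsSolvable N → N = ⊥ := by
    intro N hN hs
    rw [eq_bot_iff, ← hrad]
    exact le_rad hN hs
  have h3' : (degreeGraph (G ⧸ R)).CliqueFree 3 := by
    refine SimpleGraph.CliqueFree.anti ?_ h3
    intro p q h
    obtain ⟨h1, h2, h4, h5⟩ := adj_iff.1 h
    exact adj_iff.2 ⟨h1, h2, h4, h5.of_quotient R⟩
  have hmain : ∀ N : Subgroup (G ⧸ R), N.Normal → N ≠ ⊥ → ∃ L : Subgroup (G ⧸ R), L.Normal ∧ L ≤ N ∧ L ≠ ⊥ ∧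
      ∃ (F : Type) (_ : Field F) (_ : Fintype F), 4 ≤ Fintype.card F ∧
      Nonempty (L ≃* Matrix.ProjectiveSpecialLinearGroup (Fin 2) F) := by
    intro N hN hNb
    obtain ⟨L, hL, hLN, hLb, hmin⟩ := H671.Frame.exists_minNormal hN hNb
    exact ⟨L, hL, hLN, hLb, l2_of_min hT h3' L hL hmin fun hs => hLb (hnc L hL hs)⟩
  have hnt : (⊤ : Subgroup (G ⧸ R)) ≠ ⊥ := by
    intro h
    apply hG
    rw [← rad_eq_top_iff]
    have h1 : Subsingleton (G ⧸ R) := by
      rw [← Subgroup.subsingleton_iff]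
      exact subsingleton_of_bot_eq_top h.symm
    exact QuotientGroup.subgroup_eq_top_of_subsingleton _ h1
  obtain ⟨L, hL, -, hLb, F, iF, iF', hF, ⟨e⟩⟩ := hmain ⊤ inferInstance hnt
  refine ⟨R, L.comap (QuotientGroup.mk' R), hRn, inferInstance, ?_, ?_, ?_, F, iF, iF', hF, ?_, ?_⟩
  · have := Subgroup.ker_le_comap (QuotientGroup.mk' R) L
    rwa [QuotientGroup.ker_mk'] at this
  · exact (rad_spec G).2.1
  · intro N hN hs
    exact le_rad hN hs
  · rw [Subgroup.map_comap_eq_self_of_surjective (QuotientGroup.mk'_surjective R)]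
    exact ⟨e⟩
  · rw [Subgroup.map_comap_eq_self_of_surjective (QuotientGroup.mk'_surjective R)]
    by_contra hC
    obtain ⟨M, hM, hMC, hMb, F', iF1, iF1', hF', ⟨e'⟩⟩ := hmain _ inferInstance hC
    have hcomm : ∀ a ∈ L, ∀ b ∈ M, a * b = b * a := fun a ha b hb => Subgroup.mem_centralizer_iff.1 (hMC hb) a ha
    have hint : L ⊓ M = ⊥ := by
      refine hnc _ inferInstance (Group.isSolvable_of_comm fun a b => Subtype.ext ?_)
      exact hcomm _ a.2.1 _ b.2.2
    obtain ⟨h2, p, p', hp, hp', hp2, hp2', hpp, hip, hip'⟩ := primes_psl hF e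
    obtain ⟨g2, q, q', hq, hq', hq2, hq2', hqq, hiq, hiq'⟩ := primes_psl hF' e'
    -- an odd prime of the second factor different from `p`
    obtain ⟨r, hr, hr2, hpr, hir⟩ : ∃ r : ℕ, r.Prime ∧ r ≠ 2 ∧ p ≠ r ∧ H33.IM r M := by
      by_cases h : p = q
      · exact ⟨q', hq', hq2', fun h' => hqq (h.symm.trans h'), hiq'⟩
      · exact ⟨q, hq, hq2, h, hiq⟩
    refine not_cliqueFree Nat.prime_two hp hr hp2.symm hpr hr2.symm ?_ ?_ ?_ h3'
    · rw [mul_comm]
      exact im_of_two L M hcomm hint hip g2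
    · exact im_of_two L M hcomm hint hip hir
    · exact im_of_two L M hcomm hint h2 hir

end Cfsg.Agent.H988.DG
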