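import Cfsg.Agent.H671.H5Facts
import Cfsg.Agent.H988.DG.Frame
import Cfsg.Agent.S4774
import Cfsg.Agent.S4812
import Cfsg.Agent.S0494
import Mathlib.FieldTheory.Finite.GaloisField
import Mathlib.Combinatorics.SimpleGraph.Metric

/-!
# The degree graph of a simple group: diameter at most three (helper988, TEAM DEG)
-/

set_option autoImplicit false

namespace Cfsg.Agent.H988.DG

open Cfsg Subgroup Cfsg.Agent.H33

universe u v

/-- A connected graph in which among three vertices two are adjacent has diameter at most three. -/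
theorem exists_walk_three {V : Type u} {Γ : SimpleGraph V} (hc : Γ.Connected)
    (h : ∀ a b c : V, a ≠ b → b ≠ c → a ≠ c → Γ.Adj a b ∨ Γ.Adj b c ∨ Γ.Adj a c) (u v : V) :
    ∃ w : Γ.Walk u v, w.length ≤ 3 := by
  obtain ⟨w, hw⟩ := hc.exists_walk_length_eq_dist u v
  refine ⟨w, ?_⟩
  by_contra hlen
  push Not at hlen
  have key : ∀ i ≤ w.length, Γ.dist u (w.getVert i) = i := by
    intro i hi
    have h1 : Γ.dist u (w.getVert i) ≤ (w.take i).length := SimpleGraph.dist_le _
    have h2 : Γ.dist (w.getVert i) v ≤ (w.drop i).length := SimpleGraph.dist_le _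
    rw [SimpleGraph.Walk.take_length] at h1
    rw [SimpleGraph.Walk.drop_length] at h2
    have h3 := hc.dist_triangle (u := u) (v := w.getVert i) (w := v)
    omega
  have h2 := key 2 (by omega)
  have h4 := key 4 (by omega)
  have hne : ∀ {x y : V}, 2 ≤ Γ.dist x y → x ≠ y ∧ ¬ Γ.Adj x y := by
    intro x y hxy
    constructor
    · rintro rfl
      rw [SimpleGraph.dist_self] at hxy
      omega
    · intro ha
      rw [SimpleGraph.dist_eq_one_iff_adj.2 ha] at hxy
      omega
  have h5 := hc.dist_triangle (u := u) (v := w.getVert 2) (w := w.getVert 4)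
  obtain ⟨a1, a2⟩ := hne (x := u) (y := w.getVert 2) (by omega)
  obtain ⟨b1, b2⟩ := hne (x := w.getVert 2) (y := w.getVert 4) (by omega)
  obtain ⟨c1, c2⟩ := hne (x := u) (y := w.getVert 4) (by omega)
  rcases h u (w.getVert 2) (w.getVert 4) a1 b1 c1 with h | h | h
  · exact a2 h
  · exact b2 h
  · exact c2 h

/-- `PSL(2,5)` is `PSL(2,4)`. -/
theorem l2_good {S : Type u} [Group S] [Finite S] [IsSimpleGroup S] (h : H671.H5.IsL2 S) :
    ∃ (F : Type) (_ : Field F) (_ : Fintype F), 4 ≤ Fintype.card F ∧ Fintype.card F ≠ 5 ∧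
      Nonempty (S ≃* Matrix.ProjectiveSpecialLinearGroup (Fin 2) F) := by
  classical
  obtain ⟨F, iF, iF', hF, ⟨e⟩⟩ := h
  by_cases h5 : Fintype.card F = 5
  · have : Fact (Nat.Prime 2) := ⟨Nat.prime_two⟩
    have := Fintype.ofFinite (GaloisField 2 2)
    have h4 : Fintype.card (GaloisField 2 2) = 4 := by
      rw [← Nat.card_eq_fintype_card, GaloisField.card 2 2 (by norm_num)]
      norm_num
    have h6 : Nat.card (Matrix.ProjectiveSpecialLinearGroup (Fin 2) F) = 60 := by
      have := SmallSimple.PSLTwoPart.card_psl_two_odd (F := F) (by rw [h5]; decide)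
      rw [h5] at this
      omega
    have h7 : Nat.card (Matrix.ProjectiveSpecialLinearGroup (Fin 2) (GaloisField 2 2)) = 60 := by
      rw [SmallSimple.PSLTwoPart.card_psl_two_even (by rw [h4]; decide), h4]
      norm_num
    have h8 : Nat.card S = 60 := by rw [Nat.card_congr e.toEquiv, h6]
    have : IsSimpleGroup (Matrix.ProjectiveSpecialLinearGroup (Fin 2) (GaloisField 2 2)) :=
      Matrix.ProjectiveSpecialLinearGroup.rank_two_simple (by rw [Nat.card_eq_fintype_card, h4])
    obtain ⟨e1⟩ := S0494.result h8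
    obtain ⟨e2⟩ := S0494.result h7
    exact ⟨GaloisField 2 2, inferInstance, inferInstance, h4.ge, by rw [h4]; norm_num, ⟨e1.trans e2.symm⟩⟩
  · exact ⟨F, iF, iF', hF, h5, ⟨e⟩⟩

/-- The degree graph of `PSL(2,F)` has an isolated vertex. -/
theorem exists_isolated {F : Type} [Field F] [Fintype F] (hF : 4 ≤ Fintype.card F) (h5 : Fintype.card F ≠ 5)
    {S : Type u} [Group S] [Finite S] (e : S ≃* Matrix.ProjectiveSpecialLinearGroup (Fin 2) F) :
    ∃ t ∈ degreePrimes S, ∀ s : ℕ, ¬ (degreeGraph S).Adj t s := by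
  have hq1 : 1 < Fintype.card F := Fintype.one_lt_card
  rcases Nat.even_or_odd (Fintype.card F) with h | h
  · have hchar : CharP F 2 := by
      have h6 : ringChar F = 2 := FiniteField.even_card_iff_char_two.2 (Nat.even_iff.1 h)
      rw [← h6]
      exact ringChar.charP F
    obtain ⟨hv, hadj⟩ := S4812.result F (Fintype.card F) rfl hF (Or.inl ⟨e⟩)
    refine ⟨2, ?_, ?_⟩
    · rw [hv]
      exact ⟨Nat.prime_two, (even_iff_two_dvd.1 h).mul_right _⟩
    · intro s hs
      obtain ⟨-, -, -, h1⟩ := (hadj 2 s).1 hs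
      rw [Nat.even_iff] at h
      rcases h1 with ⟨h1, -⟩ | ⟨h1, -⟩ <;> omega
  · have h6 : 5 < Fintype.card F := by
      rcases h with ⟨k, hk⟩
      omega
    have hodd : ringChar F ≠ 2 := by
      intro h7
      have := FiniteField.even_card_iff_char_two.1 h7
      rw [Nat.odd_iff] at h
      omega
    have hpr : (ringChar F).Prime := CharP.char_is_prime F _
    have : Fact (ringChar F).Prime := ⟨hpr⟩
    have : CharP F (ringChar F) := ringChar.charP F
    obtain ⟨n, -, hq⟩ := FiniteField.card F (ringChar F)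
    obtain ⟨hv, hadj⟩ := S4774.result F (ringChar F) hodd (Fintype.card F) rfl h6 (Or.inl ⟨e⟩)
    have hd : ringChar F ∣ Fintype.card F := by
      rw [hq]
      exact dvd_pow_self _ n.2.ne'
    refine ⟨ringChar F, ?_, ?_⟩
    · rw [hv]
      exact ⟨hpr, hd.mul_right _⟩
    · intro s hs
      obtain ⟨-, -, -, h1, -⟩ := (hadj _ s).1 hs
      have h7 : ringChar F ∣ Fintype.card F ^ 2 := hd.trans (dvd_pow_self _ (by norm_num))
      have h8 : 1 ≤ Fintype.card F ^ 2 := Nat.one_le_pow _ _ (by omega)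
      have h9 := (Nat.dvd_sub h7 h1)
      rw [Nat.sub_sub_self h8] at h9
      exact hpr.one_lt.ne' (Nat.dvd_one.1 h9)

/-- **S4998 from the simple facts.** -/
theorem diam (hI : H671.H5.FactInd.{u}) {G : Type u} [Group G] [Finite G] (hS : IsSimpleGroup G) (hna : ¬ IsMulCommutative G)
    (hconn : ((Cfsg.degreeGraph G).induce (Cfsg.degreePrimes G)).Connected) (u v : ↥(Cfsg.degreePrimes G)) :
    ∃ w : ((Cfsg.degreeGraph G).induce (Cfsg.degreePrimes G)).Walk u v, w.length ≤ 3 := by
  by_cases hL : H671.H5.IsL2 G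
  · exfalso
    obtain ⟨F, iF, iF', hF, h5, ⟨e⟩⟩ := l2_good hL
    obtain ⟨t, ht, hiso⟩ := exists_isolated hF h5 e
    have hns : ¬ Group.IsSolvable G := fun h => hna ⟨⟨fun a b => IsSimpleGroup.comm_iff_isSolvable.2 h a b⟩⟩
    obtain ⟨p, q, r, hpq, hqr, hpr, hp, hq, hr⟩ := S4782.result hns
    have key : ∀ x ∈ degreePrimes G, x = t := by
      intro x hx
      obtain ⟨w⟩ := hconn.preconnected ⟨t, ht⟩ ⟨x, hx⟩
      cases w with
      | nil => rfl
      | cons h _ => exact absurd h (hiso _)
    exact hpq ((key p hp).trans (key q hq).symm)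
  · refine exists_walk_three hconn ?_ u v
    rintro ⟨a, ha⟩ ⟨b, hb⟩ ⟨c, hc⟩ hab hbc hac
    exact hI G hna hL a ha b hb c hc (fun h => hab (Subtype.ext h)) (fun h => hbc (Subtype.ext h))
      (fun h => hac (Subtype.ext h))

end Cfsg.Agent.H988.DG
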