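import Cfsg.Agent.H988.DG.Five
import Cfsg.Agent.H714.Tri.Out

/-!
# `OutFact` (helper714) in the form used here; S4922 from `FactTri` (helper988, TEAM DEG)
-/

set_option autoImplicit false

namespace Cfsg.Agent.H988.DG

open Cfsg

universe u

theorem outFact : OutFact.{u} := by
  intro Γ _ _ S _ F _ _ e hF hC t ht hd hn
  obtain ⟨r, s, hr, hs, hrs, hrd, hsd, d, hdm, hdd⟩ := (Cfsg.Agent.H714.Tri.out S e hF hC ht hd).1 hn
  exact ⟨r, s, hr, hs, hrs, hrd, hsd, d, hdm, by rwa [mul_assoc]⟩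

/-- **S4922 from `FactTri`.** -/
theorem five_of_tri (hT : Cfsg.Agent.H671.H5.FactTri.{0}) {G : Type u} [Group G] [Finite G]
    (h3 : (degreeGraph G).CliqueFree 3) : Set.ncard (degreePrimes G) ≤ 5 := five hT outFact h3

end Cfsg.Agent.H988.DG
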