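import Cfsg.Agent.H988.DG.Rel

/-!
# A degree graph without triangle has at most five vertices (helper988, TEAM DEG)
-/

set_option autoImplicit false

namespace Cfsg.Agent.H988.DG

open Cfsg Subgroup Cfsg.Agent.H33

universe u v

/-- Ramsey's theorem `R(3,3) ≤ 6`, with the two hypotheses of the application. -/
theorem ramsey (A : ℕ → ℕ → Prop) (hs : ∀ a b, A a b → A b a) (P : Finset ℕ)
    (h1 : ∀ a ∈ P, ∀ b ∈ P, ∀ c ∈ P, a ≠ b → b ≠ c → a ≠ c → A a b → A b c → A a c → False)
    (h2 : ∀ a ∈ P, ∀ b ∈ P, ∀ c ∈ P, a ≠ b → b ≠ c → a ≠ c → A a b ∨ A b c ∨ A a c) : P.card ≤ 5 := by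
  classical
  by_contra hc
  push Not at hc
  obtain ⟨v, hv⟩ : P.Nonempty := Finset.card_pos.1 (by omega)
  have h3 : (P.erase v).card = P.card - 1 := Finset.card_erase_of_mem hv
  have h4 := Finset.card_filter_add_card_filter_not (s := P.erase v) (p := fun x => A v x)
  have hmem : ∀ x ∈ P.erase v, x ∈ P ∧ x ≠ v := fun x hx => ⟨(Finset.mem_erase.1 hx).2, (Finset.mem_erase.1 hx).1⟩
  by_cases h5 : 2 < ((P.erase v).filter (fun x => A v x)).card
  · obtain ⟨a, b, c, ha, hb, hc', hab, hac, hbc⟩ := Finset.two_lt_card_iff.1 h5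
    simp only [Finset.mem_filter] at ha hb hc'
    obtain ⟨ha1, ha2⟩ := hmem a ha.1
    obtain ⟨hb1, hb2⟩ := hmem b hb.1
    obtain ⟨hc1, hc2⟩ := hmem c hc'.1
    rcases h2 a ha1 b hb1 c hc1 hab hbc hac with h | h | h
    · exact h1 v hv a ha1 b hb1 ha2.symm hab hb2.symm ha.2 h hb.2
    · exact h1 v hv b hb1 c hc1 hb2.symm hbc hc2.symm hb.2 h hc'.2
    · exact h1 v hv a ha1 c hc1 ha2.symm hac hc2.symm ha.2 h hc'.2
  · have h6 : 2 < ((P.erase v).filter (fun x => ¬ A v x)).card := by omega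
    obtain ⟨a, b, c, ha, hb, hc', hab, hac, hbc⟩ := Finset.two_lt_card_iff.1 h6
    simp only [Finset.mem_filter] at ha hb hc'
    obtain ⟨ha1, ha2⟩ := hmem a ha.1
    obtain ⟨hb1, hb2⟩ := hmem b hb.1
    obtain ⟨hc1, hc2⟩ := hmem c hc'.1
    have hk : ∀ x ∈ P, ∀ y ∈ P, x ≠ v → y ≠ v → x ≠ y → ¬ A v x → ¬ A v y → A x y := by
      intro x hx y hy hxv hyv hxy h7 h8
      rcases h2 v hv x hx y hy hxv.symm hxy hyv.symm with h | h | h
      · exact absurd h h7
      · exact h
      · exact absurd h h8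
    exact h1 a ha1 b hb1 c hc1 hab hbc hac (hk a ha1 b hb1 ha2 hb2 hab ha.2 hb.2) (hk b hb1 c hc1 hb2 hc2 hbc hb.2 hc'.2)
      (hk a ha1 c hc1 ha2 hc2 hac ha.2 hc'.2)

/-- the vertices, as a finite set -/
theorem exists_finset (G : Type u) [Group G] [Finite G] : ∃ P : Finset ℕ, (P : Set ℕ) = degreePrimes G := by
  have h : (degreePrimes G).Finite := by
    refine (Finset.finite_toSet (Nat.card G).primeFactors).subset fun p hp => ?_
    rw [Finset.mem_coe, Nat.mem_primeFactors]
    exact ⟨hp.1, Cfsg.Agent.H671.Comp.dvd_card_of_mem hp, Nat.card_pos.ne'⟩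
  exact ⟨h.toFinset, h.coe_toFinset⟩

theorem solvable_case {G : Type u} [Group G] [Finite G] (hG : Group.IsSolvable G) (h3 : (degreeGraph G).CliqueFree 3) :
    Set.ncard (degreePrimes G) ≤ 5 := by
  obtain ⟨P, hP⟩ := exists_finset G
  rw [← hP, Set.ncard_coe_finset]
  have hm : ∀ a ∈ P, a ∈ degreePrimes G := fun a ha => by rw [← hP]; exact ha
  refine ramsey (fun a b => (degreeGraph G).Adj a b) (fun a b h => h.symm) P ?_ ?_
  · intro a _ b _ c _ hab hbc hac h4 h5 h6
    refine h3 {a, b, c} ?_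
    rw [SimpleGraph.is3Clique_triple_iff]
    exact ⟨h4, h6, h5⟩
  · intro a ha b hb c hc hab hbc hac
    exact H748.Palfy.palfy hG (hm a ha) (hm b hb) (hm c hc) hab hbc hac

section psl

variable {F : Type} [Field F] [Fintype F]

/-- at most two primes if pairwise adjacent in a graph without triangle -/
theorem card_le_two {A : ℕ → ℕ → Prop} {P : Finset ℕ}
    (h1 : ∀ a ∈ P, ∀ b ∈ P, ∀ c ∈ P, a ≠ b → b ≠ c → a ≠ c → A a b → A b c → A a c → False)
    (h2 : ∀ a ∈ P, ∀ b ∈ P, a ≠ b → A a b) : P.card ≤ 2 := by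
  classical
  by_contra hc
  push Not at hc
  obtain ⟨a, b, c, ha, hb, hc', hab, hac, hbc⟩ := Finset.two_lt_card_iff.1 hc
  exact h1 a ha b hb c hc' hab hbc hac (h2 a ha b hb hab) (h2 b hb c hc' hbc) (h2 a ha c hc' hac)

theorem primeFactors_psl_subset :
    (Nat.card (Matrix.ProjectiveSpecialLinearGroup (Fin 2) F)).primeFactors ⊆
      (Fintype.card F).primeFactors ∪ ((Fintype.card F - 1).primeFactors ∪ (Fintype.card F + 1).primeFactors) := by
  intro p hp
  rw [Nat.mem_primeFactors] at hp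
  obtain ⟨hp1, hp2, -⟩ := hp
  have hq : 1 < Fintype.card F := Fintype.one_lt_card
  have h1 : p ∣ Fintype.card F * (Fintype.card F ^ 2 - 1) := by
    rcases Nat.even_or_odd (Fintype.card F) with h | h
    · rwa [← SmallSimple.PSLTwoPart.card_psl_two_even h]
    · rw [← SmallSimple.PSLTwoPart.card_psl_two_odd h]
      exact hp2.mul_left _
  have h2 : Fintype.card F ^ 2 - 1 = (Fintype.card F + 1) * (Fintype.card F - 1) := by
    have := Nat.sq_sub_sq (Fintype.card F) 1
    rwa [one_pow] at this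
  rw [h2, hp1.dvd_mul, hp1.dvd_mul] at h1
  rw [Finset.mem_union, Finset.mem_union, Nat.mem_primeFactors, Nat.mem_primeFactors, Nat.mem_primeFactors]
  rcases h1 with h | h | h
  · exact Or.inl ⟨hp1, h, by omega⟩
  · exact Or.inr (Or.inr ⟨hp1, h, by omega⟩)
  · exact Or.inr (Or.inl ⟨hp1, h, by omega⟩)

theorem card_primeFactors_card : (Fintype.card F).primeFactors.card = 1 := by
  obtain ⟨n, hp, hq⟩ := FiniteField.card F (ringChar F)
  have h1 : (ringChar F ^ (n : ℕ)).primeFactors = {ringChar F} := Nat.primeFactors_prime_pow n.2.ne' hp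
  rw [hq, h1, Finset.card_singleton]

/-- at most five primes divide `|PSL(2,F)|` if its degree graph has no triangle -/
theorem card_le_five (hF : 4 ≤ Fintype.card F)
    (h3 : (degreeGraph (Matrix.ProjectiveSpecialLinearGroup (Fin 2) F)).CliqueFree 3) :
    (Nat.card (Matrix.ProjectiveSpecialLinearGroup (Fin 2) F)).primeFactors.card ≤ 5 := by
  classical
  have htri : ∀ a b c : ℕ, (degreeGraph (Matrix.ProjectiveSpecialLinearGroup (Fin 2) F)).Adj a b →
      (degreeGraph (Matrix.ProjectiveSpecialLinearGroup (Fin 2) F)).Adj b c →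
      (degreeGraph (Matrix.ProjectiveSpecialLinearGroup (Fin 2) F)).Adj a c → False := by
    intro a b c h4 h5 h6
    refine h3 {a, b, c} ?_
    rw [SimpleGraph.is3Clique_triple_iff]
    exact ⟨h4, h6, h5⟩
  have hle := Finset.card_le_card (primeFactors_psl_subset (F := F))
  have h1 := card_primeFactors_card (F := F)
  have hu1 := Finset.card_union_le (Fintype.card F).primeFactors
    ((Fintype.card F - 1).primeFactors ∪ (Fintype.card F + 1).primeFactors)
  have hu2 := Finset.card_union_le (Fintype.card F - 1).primeFactors (Fintype.card F + 1).primeFactors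
  have hcl : ∀ n : ℕ, (∀ a ∈ n.primeFactors, ∀ b ∈ n.primeFactors, a ≠ b →
      (degreeGraph (Matrix.ProjectiveSpecialLinearGroup (Fin 2) F)).Adj a b) → n.primeFactors.card ≤ 2 := by
    intro n h2
    exact card_le_two (fun a _ b _ c _ _ _ _ h4 h5 h6 => htri a b c h4 h5 h6) h2
  rcases Nat.even_or_odd (Fintype.card F) with h | h
  · have hchar : CharP F 2 := by
      have h6 : ringChar F = 2 := FiniteField.even_card_iff_char_two.2 (Nat.even_iff.1 h)
      rw [← h6]
      exact ringChar.charP F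
    obtain ⟨-, hadj⟩ := S4812.result F (Fintype.card F) rfl hF (Or.inl ⟨MulEquiv.refl _⟩)
    have h4 := hcl (Fintype.card F - 1) (by
      intro a ha b hb hab
      rw [Nat.mem_primeFactors] at ha hb
      exact (hadj a b).2 ⟨hab, ha.1, hb.1, Or.inr ⟨ha.2.1, hb.2.1⟩⟩)
    have h5 := hcl (Fintype.card F + 1) (by
      intro a ha b hb hab
      rw [Nat.mem_primeFactors] at ha hb
      exact (hadj a b).2 ⟨hab, ha.1, hb.1, Or.inl ⟨ha.2.1, hb.2.1⟩⟩)
    omega
  · by_cases h5 : Fintype.card F = 5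
    · have h6 := SmallSimple.PSLTwoPart.card_psl_two_odd h
      rw [h5] at h6
      have h7 : Nat.card (Matrix.ProjectiveSpecialLinearGroup (Fin 2) F) = 60 := by omega
      rw [h7]
      decide +kernel
    · have h6 : 5 < Fintype.card F := by
        rcases h with ⟨k, hk⟩
        omega
      have hodd : ringChar F ≠ 2 := by
        intro h7
        have := FiniteField.even_card_iff_char_two.1 h7
        rw [Nat.odd_iff] at h
        omega
      have hpr : (ringChar F).Prime := CharP.char_is_prime F _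
      have : Fact (ringChar F).Prime := ⟨hpr⟩
      have : CharP F (ringChar F) := ringChar.charP F
      obtain ⟨-, hadj⟩ := S4774.result F (ringChar F) hodd (Fintype.card F) rfl h6 (Or.inl ⟨MulEquiv.refl _⟩)
      have hsq : Fintype.card F ^ 2 - 1 = (Fintype.card F + 1) * (Fintype.card F - 1) := by
        have := Nat.sq_sub_sq (Fintype.card F) 1
        rwa [one_pow] at this
      have h7 := hcl (Fintype.card F - 1) (by
        intro a ha b hb hab
        rw [Nat.mem_primeFactors] at ha hb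
        refine (hadj a b).2 ⟨hab, ha.1, hb.1, ?_, ?_, Or.inr (Or.inr (Or.inr ⟨ha.2.1, hb.2.1⟩))⟩
        · rw [hsq]; exact ha.2.1.mul_left _
        · rw [hsq]; exact hb.2.1.mul_left _)
      have h8 := hcl (Fintype.card F + 1) (by
        intro a ha b hb hab
        rw [Nat.mem_primeFactors] at ha hb
        refine (hadj a b).2 ⟨hab, ha.1, hb.1, ?_, ?_, Or.inr (Or.inr (Or.inl ⟨ha.2.1, hb.2.1⟩))⟩
        · rw [hsq]; exact ha.2.1.mul_right _
        · rw [hsq]; exact hb.2.1.mul_right _)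
      omega

theorem card_le_three (hF : Fintype.card F = 4 ∨ Fintype.card F = 5 ∨ Fintype.card F = 8) :
    (Nat.card (Matrix.ProjectiveSpecialLinearGroup (Fin 2) F)).primeFactors.card ≤ 3 := by
  rcases hF with h | h | h
  · rw [SmallSimple.PSLTwoPart.card_psl_two_even (by rw [h]; decide), h]
    decide +kernel
  · have h6 := SmallSimple.PSLTwoPart.card_psl_two_odd (F := F) (by rw [h]; decide)
    rw [h] at h6
    have h7 : Nat.card (Matrix.ProjectiveSpecialLinearGroup (Fin 2) F) = 60 := by omega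
    rw [h7]
    decide +kernel
  · rw [SmallSimple.PSLTwoPart.card_psl_two_even (by rw [h]; decide), h]
    decide +kernel

end psl

/-- **S4922 from the simple facts.** -/
theorem five (hT : Cfsg.Agent.H671.H5.FactTri.{0}) (hO : OutFact.{u}) {G : Type u} [Group G] [Finite G]
    (h3 : (degreeGraph G).CliqueFree 3) : Set.ncard (degreePrimes G) ≤ 5 := by
  classical
  by_cases hG : Group.IsSolvable G
  · exact solvable_case hG h3
  obtain ⟨T⟩ := Fr.exists hT hG h3
  obtain ⟨P, hP⟩ := exists_finset G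
  rw [← hP, Set.ncard_coe_finset]
  have hm : ∀ a ∈ P, a ∈ degreePrimes G := fun a ha => by rw [← hP]; exact ha
  set N := (Nat.card T.L).primeFactors with hN
  have hNm : ∀ {a : ℕ}, a.Prime → a ∣ Nat.card T.L → a ∈ N := by
    intro a ha h
    rw [hN, Nat.mem_primeFactors]
    exact ⟨ha, h, Nat.card_pos.ne'⟩
  have hL3 : (degreeGraph T.L).CliqueFree 3 := by
    refine SimpleGraph.CliqueFree.anti ?_ h3
    intro p q h
    obtain ⟨h1, h2, h4, h5⟩ := adj_iff.1 h
    exact adj_iff.2 ⟨h1, h2, h4, T.im_of_L h5⟩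
  by_cases hsub : P ⊆ N
  · exact (Finset.card_le_card hsub).trans (card_le_five T.hF hL3)
  -- a vertex outside
  have hout : ∀ t ∈ P \ N, H33.IM t T.R ∧ (Fintype.card T.F = 4 ∨ Fintype.card T.F = 5 ∨ Fintype.card T.F = 8) ∧
      H33.IM (t * 2) G := by
    intro t ht
    rw [Finset.mem_sdiff] at ht
    have htp := (hm t ht.1).1
    have hn : ¬ t ∣ Nat.card T.L := fun h => ht.2 (hNm htp h)
    rcases T.mem hO h3 (hm t ht.1) with h | ⟨-, h⟩
    · exact absurd h hn
    refine ⟨h, ?_⟩
    rcases T.out_R h with ⟨p, q, hp, hq, hpq, hpd, hqd, h4⟩ | ⟨h4, h5⟩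
    · exact absurd h3 (not_cliqueFree_of_dvd htp hp hq (fun h => hn (h ▸ hpd)) hpq (fun h => hn (h ▸ hqd))
        (by rwa [mul_assoc]))
    · exact ⟨h4, h5 2 (primes_psl T.hF (MulEquiv.refl _)).1⟩
  obtain ⟨t0, ht0⟩ : (P \ N).Nonempty := by
    rw [Finset.sdiff_nonempty]
    exact hsub
  have hcN : N.card ≤ 3 := card_le_three (hout t0 ht0).2.1
  have hcO : (P \ N).card ≤ 2 := by
    by_contra hc
    push Not at hc
    obtain ⟨a, b, c, ha, hb, hc', hab, hac, hbc⟩ := Finset.two_lt_card_iff.1 hc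
    have hpr : ∀ x ∈ P \ N, x ∈ degreePrimes T.R := fun x hx =>
      mem_dp_iff.2 ⟨(hm x (Finset.mem_sdiff.1 hx).1).1, (hout x hx).1⟩
    have hkey : ∀ x ∈ P \ N, ∀ y ∈ P \ N, x ≠ y → H671.H5.Adj x y T.R → False := by
      intro x hx y hy hxy h
      obtain ⟨-, hxp, hyp, h5⟩ := adj_iff.1 h
      have h2 : ∀ z ∈ P \ N, z ≠ 2 := by
        rintro z hz rfl
        exact (Finset.mem_sdiff.1 hz).2 (hNm Nat.prime_two (two_dvd_card_psl T.hF))
      refine not_cliqueFree hxp hyp Nat.prime_two hxy (h2 y hy) (h2 x hx) (h5.of_normal T.R) (hout y hy).2.2 (hout x hx).2.2 h3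
    have h6 := T.sol
    rcases H748.Palfy.palfy h6 (hpr a ha) (hpr b hb) (hpr c hc') hab hbc hac with h | h | h
    · exact hkey a ha b hb hab h
    · exact hkey b hb c hc' hbc h
    · exact hkey a ha c hc' hac h
  have h7 : P.card ≤ (P \ N).card + N.card := by
    have h8 := Finset.card_le_card (show P ⊆ (P \ N) ∪ N by
      intro x hx
      rw [Finset.mem_union, Finset.mem_sdiff]
      by_cases h9 : x ∈ N
      · exact Or.inr h9
      · exact Or.inl ⟨hx, h9⟩)
    exact h8.trans (Finset.card_union_le _ _)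
  omega

end Cfsg.Agent.H988.DG
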