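import Cfsg.Agent.H988.DG.NonSolvB
import Cfsg.Agent.H671.Frame

/-!
# 1-regular degree graphs: the non-solvable case (helper988, TEAM DEG)
-/

set_option autoImplicit false

namespace Cfsg.Agent.H988.DG

open Cfsg Subgroup Cfsg.Agent.H33

universe u v

/-- a group with commuting normal subgroups `A ∩ B = 1`, `A B = G` -/
noncomputable def prodEquiv {G : Type u} [Group G] (A B : Subgroup G)
    (hAB : ∀ a ∈ A, ∀ b ∈ B, a * b = b * a) (hd : A ⊓ B = ⊥) (ht : ∀ g : G, ∃ a ∈ A, ∃ b ∈ B, a * b = g) :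
    A × B ≃* G :=
  MulEquiv.ofBijective
    ({ toFun := fun x => (x.1 : G) * x.2
       map_one' := by simp
       map_mul' := fun x y => by
        change (x.1 : G) * y.1 * (x.2 * y.2) = x.1 * x.2 * (y.1 * y.2)
        have := hAB y.1 y.1.2 x.2 x.2.2
        calc (x.1 : G) * y.1 * (x.2 * y.2) = x.1 * (y.1 * x.2) * y.2 := by group
          _ = x.1 * (x.2 * y.1) * y.2 := by rw [this]
          _ = x.1 * x.2 * (y.1 * y.2) := by group } : A × B →* G)
    ⟨by
      rw [injective_iff_map_eq_one]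
      rintro ⟨x, y⟩ hxy
      have h1 : (x : G) * y = 1 := hxy
      have h3 : (x : G) ∈ B := by
        rw [eq_inv_of_mul_eq_one_left h1]
        exact inv_mem y.2
      have h2 : (x : G) ∈ A ⊓ B := ⟨x.2, h3⟩
      rw [hd, mem_bot] at h2
      rw [h2, one_mul] at h1
      exact Prod.ext (Subtype.ext h2) (Subtype.ext h1), by
      intro g
      obtain ⟨a, ha, b, hb, rfl⟩ := ht g
      exact ⟨(⟨a, ha⟩, ⟨b, hb⟩), rfl⟩⟩

theorem degree_one_of_no_prime {X : Type u} [Group X] [Finite X] (h : ∀ t : ℕ, t.Prime → ¬ H33.IM t X) {ψ : X → ℂ}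
    (hψ : IsIrrCharacter X ψ) {n : ℕ} (hn : ψ 1 = n) : n = 1 := by
  by_contra hne
  obtain ⟨t, ht, hd⟩ := Nat.exists_prime_and_dvd hne
  exact h t ht (IM.of_apply_one hψ hn hd)

/-- degrees of `A × B` if `B` has only linear characters -/
theorem im_of_prod {A : Type u} {B : Type v} [Group A] [Finite A] [Group B] [Finite B]
    (hB : ∀ t : ℕ, t.Prime → ¬ H33.IM t B) {m : ℕ} (h : H33.IM m (A × B)) : H33.IM m A := by
  obtain ⟨χ, hχ⟩ := h
  obtain ⟨φ, ψ, hφ, hψ, he⟩ := (S0188.result (χ : A × B → ℂ)).1 χ.2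
  obtain ⟨n, -, hn⟩ := Cfsg.Agent.Characters.Core.isIrr_apply_one hφ
  obtain ⟨k, -, hk⟩ := Cfsg.Agent.Characters.Core.isIrr_apply_one hψ
  have hk1 := degree_one_of_no_prime hB hψ hk
  have h1 : (χ : A × B → ℂ) 1 = n := by
    rw [he]
    change φ 1 * ψ 1 = n
    rw [hn, hk, hk1, Nat.cast_one, mul_one]
  rw [H670.PSing.charDegree_eq_of h1] at hχ
  exact IM.of_apply_one hφ hn hχ

theorem eq_bot_of_perfect {E : Type u} [Group E] {V : Subgroup E} (hs : Group.IsSolvable V) (h : ⁅V, V⁆ = V) :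
    V = ⊥ := by
  by_contra hne
  rw [← ne_eq, ← nontrivial_iff_ne_bot] at hne
  have h1 : commutator V < ⊤ := Group.IsSolvable.commutator_lt_top_of_nontrivial V
  apply h1.ne
  apply Subgroup.map_injective V.subtype_injective
  rw [commutator_def, Subgroup.map_commutator, ← MonoidHom.range_eq_map, V.range_subtype, h]

theorem perfect_of {E : Type u} [Group E] {V : Subgroup E} (h : ⁅V, V⁆ = V) : commutator V = ⊤ := by
  apply Subgroup.map_injective V.subtype_injective
  rw [commutator_def, Subgroup.map_commutator, ← MonoidHom.range_eq_map, V.range_subtype, h]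

section chief

variable {D : Type u} [Group D] [Finite D]

/-- a chief factor at the top of a solvable normal subgroup -/
theorem exists_chief (V0 : Subgroup D) [hV0 : V0.Normal] (hs : Group.IsSolvable V0) (hne : V0 ≠ ⊥) :
    ∃ (N0 : Subgroup D) (_ : N0.Normal), N0 ≤ V0 ∧ V0.map (QuotientGroup.mk' N0) ≠ ⊥ ∧
      (∀ x ∈ V0.map (QuotientGroup.mk' N0), ∀ y ∈ V0.map (QuotientGroup.mk' N0), x * y = y * x) ∧
      ∀ N : Subgroup (D ⧸ N0), N.Normal → N ≤ V0.map (QuotientGroup.mk' N0) → N = ⊥ ∨ N = V0.map (QuotientGroup.mk' N0) := by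
  classical
  have hfin : Finite (Subgroup D) := inferInstance
  obtain ⟨N0, hN0⟩ := Set.Finite.exists_maximal (Set.toFinite {N : Subgroup D | N.Normal ∧ N < V0})
    ⟨⊥, inferInstance, bot_lt_iff_ne_bot.2 hne⟩
  have hn : N0.Normal := hN0.1.1
  have hlt : N0 < V0 := hN0.1.2
  have hVn : (V0.map (QuotientGroup.mk' N0)).Normal := hV0.map _ (QuotientGroup.mk'_surjective N0)
  have hcm : (V0.map (QuotientGroup.mk' N0)).comap (QuotientGroup.mk' N0) = V0 := by
    rw [Subgroup.comap_map_eq, QuotientGroup.ker_mk', sup_eq_left.2 hlt.le]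
  have hVb : V0.map (QuotientGroup.mk' N0) ≠ ⊥ := by
    intro h
    rw [Subgroup.map_eq_bot_iff, QuotientGroup.ker_mk'] at h
    exact absurd h (not_le_of_gt hlt)
  have hmin : ∀ N : Subgroup (D ⧸ N0), N.Normal → N ≤ V0.map (QuotientGroup.mk' N0) →
      N = ⊥ ∨ N = V0.map (QuotientGroup.mk' N0) := by
    intro N hN hNV
    have h1 : N0 ≤ N.comap (QuotientGroup.mk' N0) := by
      intro x hx
      rw [Subgroup.mem_comap]
      have : QuotientGroup.mk' N0 x = 1 := (QuotientGroup.eq_one_iff x).2 hx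
      rw [this]
      exact N.one_mem
    have h2 : N.comap (QuotientGroup.mk' N0) ≤ V0 := by
      rw [← hcm]
      exact Subgroup.comap_mono hNV
    have h3 : (N.comap (QuotientGroup.mk' N0)).map (QuotientGroup.mk' N0) = N :=
      Subgroup.map_comap_eq_self_of_surjective (QuotientGroup.mk'_surjective N0) N
    by_cases h4 : N.comap (QuotientGroup.mk' N0) = V0
    · right
      rw [← h3, h4]
    · left
      have h5 : N.comap (QuotientGroup.mk' N0) < V0 := lt_of_le_of_ne h2 h4
      have h6 : N.comap (QuotientGroup.mk' N0) ≤ N0 := hN0.2 ⟨hN.comap _, h5⟩ h1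
      rw [← h3, Subgroup.map_eq_bot_iff, QuotientGroup.ker_mk']
      exact h6
  refine ⟨N0, hn, hlt.le, hVb, ?_, hmin⟩
  -- abelian
  have hsV : Group.IsSolvable (V0.map (QuotientGroup.mk' N0)) :=
    Group.isSolvable_of_surjective (f := (QuotientGroup.mk' N0).subgroupMap V0) (MonoidHom.subgroupMap_surjective _ _)
  have hc : (⁅V0.map (QuotientGroup.mk' N0), V0.map (QuotientGroup.mk' N0)⁆ : Subgroup (D ⧸ N0)).Normal :=
    Subgroup.commutator_normal _ _
  rcases hmin _ hc (Subgroup.commutator_le_left _ _) with h | h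
  · intro x hx y hy
    have h1 := Subgroup.commutator_mem_commutator hx hy
    rw [h, Subgroup.mem_bot] at h1
    exact commutatorElement_eq_one_iff_mul_comm.1 h1
  · exfalso
    apply hVb
    exact eq_bot_of_perfect hsV h

end chief

/-- **A non-solvable group does not have a 1-regular degree graph.** -/
theorem nonsolv_false (hT : Cfsg.Agent.H671.H5.FactTri.{0}) (hX : Cross.{u}) {G : Type u} [Group G] [Finite G]
    (hG : ¬ Group.IsSolvable G) (r : Reg G) : False := by
  classical
  obtain ⟨T⟩ := Fr.exists hT hG r.cliqueFree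
  obtain ⟨hev, h4⟩ := T.even_card r
  have hKb := T.Kb_top r
  have hsol := T.sol
  have hsimp : IsSimpleGroup (Matrix.ProjectiveSpecialLinearGroup (Fin 2) T.F) :=
    Matrix.ProjectiveSpecialLinearGroup.rank_two_simple (by rw [Nat.card_eq_fintype_card]; omega)
  let eL : (G ⧸ T.R) ≃* Matrix.ProjectiveSpecialLinearGroup (Fin 2) T.F :=
    (Subgroup.topEquiv.symm.trans (MulEquiv.subgroupCongr hKb.symm)).trans T.e
  obtain ⟨D, hDn, hperf, hDs⟩ := H671.Frame.exists_residual G
  -- `D R = G`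
  have hDR : D.map (QuotientGroup.mk' T.R) = ⊤ := by
    have hs : IsSimpleGroup (G ⧸ T.R) := MulEquiv.isSimpleGroup eL
    rcases hs.eq_bot_or_eq_top_of_normal (D.map (QuotientGroup.mk' T.R))
      (hDn.map _ (QuotientGroup.mk'_surjective T.R)) with h | h
    · exfalso
      apply hG
      rw [Subgroup.map_eq_bot_iff, QuotientGroup.ker_mk'] at h
      have h1 : Group.IsSolvable D := Group.isSolvable_of_isSolvable_injective (Subgroup.inclusion_injective h)
      exact Group.isSolvable_of_ker_le_range D.subtype (QuotientGroup.mk' D) (by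
        rw [QuotientGroup.ker_mk', Subgroup.range_subtype])
    · exact h
  let f : D →* Matrix.ProjectiveSpecialLinearGroup (Fin 2) T.F :=
    (eL.toMonoidHom.comp (QuotientGroup.mk' T.R)).comp D.subtype
  have hfk : ∀ x : D, x ∈ f.ker ↔ (x : G) ∈ T.R := by
    intro x
    rw [MonoidHom.mem_ker]
    change eL (QuotientGroup.mk' T.R (x : G)) = 1 ↔ _
    rw [EmbeddingLike.map_eq_one_iff, QuotientGroup.mk'_apply, QuotientGroup.eq_one_iff]
  have hfs : Function.Surjective f := by
    intro y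
    have h1 : eL.symm y ∈ D.map (QuotientGroup.mk' T.R) := by rw [hDR]; trivial
    obtain ⟨d, hd, hdy⟩ := h1
    refine ⟨⟨d, hd⟩, ?_⟩
    change eL (QuotientGroup.mk' T.R d) = y
    rw [hdy, eL.apply_symm_apply]
  have hks : Group.IsSolvable f.ker := by
    let j : f.ker →* T.R :=
      { toFun := fun x => ⟨(x : D), (hfk x).1 x.2⟩
        map_one' := rfl
        map_mul' := fun _ _ => rfl }
    exact Group.isSolvable_of_isSolvable_injective (f := j) (by
      intro x y hxy
      have h1 : ((j x : T.R) : G) = (j y : T.R) := congrArg Subtype.val hxy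
      exact Subtype.ext (Subtype.ext h1))
  by_cases hV0 : f.ker = ⊥
  · -- `G = D × R`
    have hinf : D ⊓ T.R = ⊥ := by
      rw [eq_bot_iff]
      rintro x ⟨hx, hxR⟩
      have h1 : (⟨x, hx⟩ : D) ∈ f.ker := (hfk _).2 hxR
      rw [hV0, Subgroup.mem_bot] at h1
      exact congrArg Subtype.val h1
    have hcomm : ∀ a ∈ D, ∀ b ∈ T.R, a * b = b * a := by
      intro a ha b hb
      have h1 : a * b * a⁻¹ * b⁻¹ ∈ D ⊓ T.R := by
        refine Subgroup.mem_inf.2 ⟨?_, T.R.mul_mem (T.hR.conj_mem b hb a) (T.R.inv_mem hb)⟩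
        have : a * b * a⁻¹ * b⁻¹ = a * (b * a⁻¹ * b⁻¹) := by group
        rw [this]
        exact D.mul_mem ha (hDn.conj_mem _ (D.inv_mem ha) b)
      rw [hinf, Subgroup.mem_bot] at h1
      have h2 : a * b = (a * b * a⁻¹ * b⁻¹) * (b * a) := by group
      rw [h2, h1, one_mul]
    have hall : ∀ g : G, ∃ a ∈ D, ∃ b ∈ T.R, a * b = g := by
      intro g
      have h1 : QuotientGroup.mk' T.R g ∈ D.map (QuotientGroup.mk' T.R) := by rw [hDR]; trivial
      obtain ⟨d, hd, hdg⟩ := h1
      exact ⟨d, hd, d⁻¹ * g, QuotientGroup.eq.1 hdg, by group⟩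
    have eD : D ≃* Matrix.ProjectiveSpecialLinearGroup (Fin 2) T.F :=
      MulEquiv.ofBijective f ⟨(MonoidHom.ker_eq_bot_iff f).1 hV0, hfs⟩
    obtain ⟨x, hx, hxd⟩ := T.exists_prime_sub r
    obtain ⟨y, hy, hyd⟩ := T.exists_prime_add r
    have hodd1 : x ≠ 2 := by
      rintro rfl
      obtain ⟨k, hk⟩ := hev
      omega
    have hodd2 : y ≠ 2 := by
      rintro rfl
      obtain ⟨k, hk⟩ := hev
      omega
    have hxy : x ≠ y := by
      rintro rfl
      have h3 : x ∣ 2 := by
        have := Nat.dvd_sub hyd hxd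
        rwa [show Fintype.card T.F + 1 - (Fintype.card T.F - 1) = 2 by omega] at this
      exact hodd1 ((Nat.prime_dvd_prime_iff_eq hx Nat.prime_two).1 h3)
    have hcard := SmallSimple.PSLTwoPart.card_psl_two_even (F := T.F) hev
    have hsq : Fintype.card T.F ^ 2 - 1 = (Fintype.card T.F + 1) * (Fintype.card T.F - 1) := by
      have := Nat.sq_sub_sq (Fintype.card T.F) 1
      rwa [one_pow] at this
    rw [hsq] at hcard
    have imD : ∀ z : ℕ, z.Prime → z ∣ Nat.card (Matrix.ProjectiveSpecialLinearGroup (Fin 2) T.F) → H33.IM z D :=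
      fun z hz hd => (IM.congr eD).2 (H664.R1.PSLTwo.im_psl T.hF hz hd)
    have im2 := imD 2 Nat.prime_two (two_dvd_card_psl T.hF)
    have imx := imD x hx (by rw [hcard]; exact (hxd.mul_left _).mul_left _)
    have imy := imD y hy (by rw [hcard]; exact (hyd.mul_right _).mul_left _)
    -- no prime divides a degree of `R`
    have hno : ∀ t : ℕ, t.Prime → ¬ H33.IM t T.R := by
      intro t ht h
      have key : ∀ z : ℕ, z.Prime → H33.IM z D → z ≠ t → (degreeGraph G).Adj t z := by
        intro z hz hzD hzt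
        exact adj_iff.2 ⟨hzt.symm, ht, hz, by
          rw [mul_comm]
          exact im_of_two D T.R hcomm hinf hzD h⟩
      by_cases h1 : x = t
      · exact hodd2 (r.uniq _ _ _ (key y hy imy (fun h2 => hxy (h1.trans h2.symm)))
          (key 2 Nat.prime_two im2 (fun h2 => hodd1 (h1.trans h2.symm))))
      · by_cases h2 : y = t
        · exact hodd1 (r.uniq _ _ _ (key x hx imx h1)
            (key 2 Nat.prime_two im2 (fun h3 => hodd2 (h2.trans h3.symm))))
        · exact hxy (r.uniq _ _ _ (key x hx imx h1) (key y hy imy h2))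
    -- the neighbour of 2
    obtain ⟨z, hz⟩ := r.ex 2 (T.vertex Nat.prime_two (two_dvd_card_psl T.hF))
    obtain ⟨hz2, -, hzp, hzG⟩ := adj_iff.1 hz
    have h5 : H33.IM (2 * z) D := im_of_prod hno ((IM.congr (prodEquiv D T.R hcomm hinf hall)).2 hzG)
    have h6 : H33.IM (2 * z) (Matrix.ProjectiveSpecialLinearGroup (Fin 2) T.F) := (IM.congr eD).1 h5
    have hchar : CharP T.F 2 := by
      have h6 : ringChar T.F = 2 := FiniteField.even_card_iff_char_two.2 (Nat.even_iff.1 hev)
      rw [← h6]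
      exact ringChar.charP T.F
    obtain ⟨-, hadj⟩ := S4812.result T.F (Fintype.card T.F) rfl T.hF (Or.inl ⟨MulEquiv.refl _⟩)
    obtain ⟨-, -, -, h7⟩ := (hadj 2 z).1 (adj_iff.2 ⟨hz2, Nat.prime_two, hzp, h6⟩)
    obtain ⟨k, hk⟩ := hev
    rcases h7 with h7 | h7
    · have := h7.1
      omega
    · have := h7.1
      omega
  · -- a chief factor of `D` below `R`
    obtain ⟨N0, hN0, hle, hVb, hVc, hmin⟩ := exists_chief f.ker hks hV0
    have hVn : (f.ker.map (QuotientGroup.mk' N0)).Normal :=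
      Subgroup.Normal.map inferInstance _ (QuotientGroup.mk'_surjective N0)
    have e2 : ((D ⧸ N0) ⧸ (f.ker.map (QuotientGroup.mk' N0))) ≃* Matrix.ProjectiveSpecialLinearGroup (Fin 2) T.F :=
      (QuotientGroup.quotientQuotientEquivQuotient N0 f.ker hle).trans
        (QuotientGroup.quotientKerEquivOfSurjective f hfs)
    by_cases hcen : f.ker.map (QuotientGroup.mk' N0) ≤ Subgroup.center (D ⧸ N0)
    · apply hVb
      refine no_central ?_ _ hcen hev h4 e2
      have h1 : (commutator D).map (QuotientGroup.mk' N0) = commutator (D ⧸ N0) := by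
        rw [commutator_def, commutator_def, Subgroup.map_commutator,
          Subgroup.map_top_of_surjective _ (QuotientGroup.mk'_surjective N0)]
      rw [← h1, perfect_of hperf, Subgroup.map_top_of_surjective _ (QuotientGroup.mk'_surjective N0)]
    · obtain ⟨x, y, hx, hy, hxd, hyd, d, ⟨χ, rfl⟩, hd⟩ := hX (D ⧸ N0) (f.ker.map (QuotientGroup.mk' N0)) hVc hmin hcen
        T.F hev h4 e2
      have h1 : H33.IM (x * y) (D ⧸ N0) := ⟨χ, hd⟩
      exact T.cross_false r hx hy hxd hyd ((h1.of_quotient N0).of_normal D)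

end Cfsg.Agent.H988.DG
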