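import Cfsg.Agent.H988.DG.Frame
import Cfsg.Agent.H525.L2.Main
import Cfsg.Agent.H748.PalfyFinal
import Cfsg.Agent.H671.Comp

/-!
# Non-solvable groups whose degree graph has no triangle: primes outside the socle (helper988, TEAM DEG)

* `outside` : `X / M ≅ PSL(2,F)`, `t` divides a degree of `M`: then `t` is joined to two primes of `|PSL(2,F)|`, with
  `t * p * q` dividing a degree of `X`, or `|F| ∈ {4, 5, 8}` and `t` is joined to all of them;
* `Fr` : the data of the frame; `Fr.ratio`;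
* `OutFact` : the theorem `out` of helper714;
* `Fr.mem` : a vertex divides `|PSL(2,F)|` or is a vertex of `R` prime to `|G : R|`.
-/

set_option autoImplicit false

namespace Cfsg.Agent.H988.DG

open Cfsg Subgroup Cfsg.Agent.H33 Cfsg.Agent.H459.Rad Cfsg.Agent.Characters.Core Cfsg.Agent.H681.DegBasic

universe u v

theorem outside {X : Type u} [Group X] [Finite X] (M : Subgroup X) [M.Normal] {F : Type} [Field F] [Fintype F]
    (hF : 4 ≤ Fintype.card F) (e : X ⧸ M ≃* Matrix.ProjectiveSpecialLinearGroup (Fin 2) F) {t : ℕ} (h : H33.IM t M) :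
    (∃ p q : ℕ, p.Prime ∧ q.Prime ∧ p ≠ q ∧ p ∣ Nat.card (Matrix.ProjectiveSpecialLinearGroup (Fin 2) F) ∧
      q ∣ Nat.card (Matrix.ProjectiveSpecialLinearGroup (Fin 2) F) ∧ H33.IM (t * (p * q)) X) ∨
    ((Fintype.card F = 4 ∨ Fintype.card F = 5 ∨ Fintype.card F = 8) ∧
      ∀ m : ℕ, H33.IM m (Matrix.ProjectiveSpecialLinearGroup (Fin 2) F) → H33.IM (t * m) X) := by
  classical
  have := Fintype.ofFinite X
  have := Fintype.ofFinite M
  obtain ⟨θ, hθ⟩ := h
  have hidx : M.index = Nat.card (Matrix.ProjectiveSpecialLinearGroup (Fin 2) F) := by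
    rw [Subgroup.index_eq_card]
    exact Nat.card_congr e.toEquiv
  obtain ⟨dθ, hdθ, hdθ'⟩ := isIrr_apply_one θ.2
  have hcθ := H670.PSing.charDegree_eq_of hdθ'
  rcases Cfsg.Agent.H525.L2.l2_over M hF e θ with ⟨χ, h1, p, q, d, hp, hq, hpq, h2, h3⟩ | ⟨h1, χ, h2⟩
  · left
    obtain ⟨n, hn, hn'⟩ := isIrr_apply_one χ.2
    obtain ⟨h4, h5⟩ := S0887.result M χ χ.2 θ θ.2 h1 n dθ hn' hdθ'
    rw [H670.PSing.charDegree_eq_of hn', hcθ] at h2
    have h6 : n / dθ = d := by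
      rw [h2]
      exact Nat.mul_div_cancel _ hdθ
    rw [h6, hidx] at h5
    have h7 : p * q ∣ Nat.card (Matrix.ProjectiveSpecialLinearGroup (Fin 2) F) := h3.trans h5
    refine ⟨p, q, hp, hq, hpq, (Dvd.intro _ rfl).trans h7, (Dvd.intro_left _ rfl).trans h7, χ, ?_⟩
    rw [H670.PSing.charDegree_eq_of hn', h2, mul_comm d]
    rw [hcθ] at hθ
    exact Nat.mul_dvd_mul hθ h3
  · right
    refine ⟨h1, fun m hm => ?_⟩
    obtain ⟨β, hβ⟩ := hm
    have hb : charDegree (β : Matrix.ProjectiveSpecialLinearGroup (Fin 2) F → ℂ) ∈ charDegrees (X ⧸ M) :=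
      charDegrees_comp (e : X ⧸ M →* _) e.surjective ⟨β, rfl⟩
    have hχM : IsIrrCharacter M (fun k : M => (χ : X → ℂ) k) := by
      have h3 : (fun k : M => (χ : X → ℂ) k) = (θ : M → ℂ) := funext h2
      rw [h3]
      exact θ.2
    have hχ1 : (χ : X → ℂ) 1 = dθ := by
      have := h2 1
      rw [Subgroup.coe_one] at this
      rw [this, hdθ']
    obtain ⟨η, hη⟩ := gallagher (QuotientGroup.mk' M) (QuotientGroup.mk'_surjective M) M
      (fun k hk => (QuotientGroup.eq_one_iff k).2 hk) χ.2 hχM hχ1 hb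
    refine ⟨η, ?_⟩
    rw [hη, mul_comm]
    rw [hcθ] at hθ
    exact Nat.mul_dvd_mul hβ hθ

/-- The theorem `out` of helper714. -/
def OutFact : Prop :=
  ∀ (Γ : Type u) [Group Γ] [Finite Γ] (S : Subgroup Γ) [S.Normal] (F : Type) [Field F] [Fintype F]
    (_ : S ≃* Matrix.ProjectiveSpecialLinearGroup (Fin 2) F), 4 ≤ Fintype.card F →
    Subgroup.centralizer (S : Set Γ) = ⊥ → ∀ t : ℕ, t.Prime → t ∣ S.index → ¬ t ∣ Nat.card S →
    ∃ r s : ℕ, r.Prime ∧ s.Prime ∧ r ≠ s ∧ r ∣ Nat.card S ∧ s ∣ Nat.card S ∧ ∃ d ∈ charDegrees Γ, t * r * s ∣ d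

/-- The data of the frame. -/
structure Fr (G : Type u) [Group G] where
  R : Subgroup G
  K : Subgroup G
  hR : R.Normal
  hK : K.Normal
  le : R ≤ K
  sol : Group.IsSolvable R
  max : ∀ N : Subgroup G, N.Normal → Group.IsSolvable N → N ≤ R
  F : Type
  fld : Field F
  fin : Fintype F
  hF : 4 ≤ Fintype.card F
  e : K.map (QuotientGroup.mk' R) ≃* Matrix.ProjectiveSpecialLinearGroup (Fin 2) F
  cen : Subgroup.centralizer ((K.map (QuotientGroup.mk' R) : Subgroup (G ⧸ R)) : Set (G ⧸ R)) = ⊥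

theorem Fr.exists (hT : Cfsg.Agent.H671.H5.FactTri.{0}) {G : Type u} [Group G] [Finite G] (hG : ¬ Group.IsSolvable G)
    (h3 : (degreeGraph G).CliqueFree 3) : Nonempty (Fr G) := by
  obtain ⟨R, K, hR, hK, h1, h2, h4, F, iF, iF', hF, ⟨e⟩, hC⟩ := frame hT hG h3
  exact ⟨⟨R, K, hR, hK, h1, h2, h4, F, iF, iF', hF, e, hC⟩⟩

namespace Fr

variable {G : Type u} [Group G] [Finite G] (T : Fr G)

instance normalR : T.R.Normal := T.hR
instance normalK : T.K.Normal := T.hK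
instance fieldF : Field T.F := T.fld
instance fintypeF : Fintype T.F := T.fin

/-- the simple group -/
abbrev L : Type := Matrix.ProjectiveSpecialLinearGroup (Fin 2) T.F

/-- the normal subgroup `K / R` of `G / R` -/
abbrev Kb : Subgroup (G ⧸ T.R) := T.K.map (QuotientGroup.mk' T.R)

instance normalKb : T.Kb.Normal := Subgroup.Normal.map T.hK _ (QuotientGroup.mk'_surjective T.R)

/-- the map `K → K / R` -/
noncomputable def f : T.K →* T.L := T.e.toMonoidHom.comp ((QuotientGroup.mk' T.R).subgroupMap T.K)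

theorem f_surj : Function.Surjective T.f :=
  T.e.surjective.comp (MonoidHom.subgroupMap_surjective _ _)

theorem mem_ker {x : T.K} : x ∈ T.f.ker ↔ (x : G) ∈ T.R := by
  rw [MonoidHom.mem_ker]
  have h1 : T.f x = T.e ((QuotientGroup.mk' T.R).subgroupMap T.K x) := rfl
  rw [h1, EmbeddingLike.map_eq_one_iff, ← QuotientGroup.eq_one_iff]
  constructor
  · intro h
    exact congrArg Subtype.val h
  · intro h
    exact Subtype.ext h

theorem ker_eq : T.f.ker = T.R.subgroupOf T.K := by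
  ext x
  rw [T.mem_ker, Subgroup.mem_subgroupOf]

noncomputable def kerEquiv : T.f.ker ≃* T.R :=
  (MulEquiv.subgroupCongr T.ker_eq).trans (Subgroup.subgroupOfEquivOfLe T.le)

theorem im_of_K {m : ℕ} (h : H33.IM m T.K) : H33.IM m G := h.of_normal T.K

theorem im_of_L {m : ℕ} (h : H33.IM m T.L) : H33.IM m G :=
  T.im_of_K (h.of_surjective T.f T.f_surj)

/-- A prime dividing a degree of `R`. -/
theorem out_R {t : ℕ} (h : H33.IM t T.R) :
    (∃ p q : ℕ, p.Prime ∧ q.Prime ∧ p ≠ q ∧ p ∣ Nat.card T.L ∧ q ∣ Nat.card T.L ∧ H33.IM (t * (p * q)) G) ∨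
    ((Fintype.card T.F = 4 ∨ Fintype.card T.F = 5 ∨ Fintype.card T.F = 8) ∧
      ∀ m : ℕ, H33.IM m T.L → H33.IM (t * m) G) := by
  have h1 : H33.IM t T.f.ker := h.of_equiv T.kerEquiv
  rcases outside T.f.ker T.hF (QuotientGroup.quotientKerEquivOfSurjective T.f T.f_surj) h1 with
    ⟨p, q, hp, hq, hpq, hpd, hqd, h2⟩ | ⟨h2, h3⟩
  · exact Or.inl ⟨p, q, hp, hq, hpq, hpd, hqd, T.im_of_K h2⟩
  · exact Or.inr ⟨h2, fun m hm => T.im_of_K (h3 m hm)⟩

theorem card_Kb : Nat.card T.Kb = Nat.card T.L := Nat.card_congr T.e.toEquiv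

/-- every vertex divides `|L|` or is a vertex of `R` prime to `|G : R|` -/
theorem mem (hO : OutFact.{u}) (h3 : (degreeGraph G).CliqueFree 3) {t : ℕ} (ht : t ∈ degreePrimes G) :
    t ∣ Nat.card T.L ∨ (¬ t ∣ T.R.index ∧ H33.IM t T.R) := by
  classical
  have := Fintype.ofFinite G
  have := Fintype.ofFinite T.R
  obtain ⟨htp, χ, hχ⟩ := mem_dp_iff.1 ht
  by_cases h1 : t ∣ Nat.card T.L
  · exact Or.inl h1
  right
  have h2 : ¬ t ∣ T.R.index := by
    intro h
    have h4 : T.R.index = Nat.card T.Kb * T.Kb.index := by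
      rw [Subgroup.index_eq_card T.R]
      exact (Subgroup.card_mul_index T.Kb).symm
    rw [h4, htp.dvd_mul] at h
    rcases h with h | h
    · exact h1 (by rwa [T.card_Kb] at h)
    · obtain ⟨r, s, hr, hs, hrs, hrd, hsd, d, ⟨ψ, rfl⟩, hd⟩ := hO (G ⧸ T.R) T.Kb T.F T.e T.hF T.cen t htp h
        (by rwa [T.card_Kb])
      rw [T.card_Kb] at hrd hsd
      have h5 : H33.IM (t * r * s) (G ⧸ T.R) := ⟨ψ, hd⟩
      exact not_cliqueFree_of_dvd htp hr hs (fun h => h1 (h ▸ hrd)) hrs (fun h => h1 (h ▸ hsd)) (h5.of_quotient T.R) h3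
  refine ⟨h2, ?_⟩
  obtain ⟨n, hn, hn'⟩ := isIrr_apply_one χ.2
  rw [H670.PSing.charDegree_eq_of hn'] at hχ
  obtain ⟨ψ, d, hψ, hψ1, -, hdn, hdi⟩ := exists_constituent T.R χ.2 hn'
  refine IM.of_apply_one hψ hψ1 ?_
  have h4 : n = d * (n / d) := (Nat.mul_div_cancel' hdn).symm
  rw [h4, htp.dvd_mul] at hχ
  rcases hχ with h | h
  · exact h
  · exact absurd (h.trans hdi) h2

end Fr

end Cfsg.Agent.H988.DG
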