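import Cfsg.Agent.H988.DG.Out
import Cfsg.Agent.S2086
import Cfsg.Agent.S0188

/-!
# 1-regular degree graphs: the non-solvable case (helper988, TEAM DEG)
-/

set_option autoImplicit false

namespace Cfsg.Agent.H988.DG

open Cfsg Subgroup Cfsg.Agent.H33

universe u v

/-- interface: task 1729 -/
def Cross : Prop :=
  ∀ (X : Type u) [Group X] [Finite X] (V : Subgroup X) [V.Normal], (∀ x ∈ V, ∀ y ∈ V, x * y = y * x) →
    (∀ N : Subgroup X, N.Normal → N ≤ V → N = ⊥ ∨ N = V) → ¬ V ≤ Subgroup.center X →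
    ∀ (F : Type) [Field F] [Fintype F], Even (Fintype.card F) → 4 < Fintype.card F →
    (X ⧸ V ≃* Matrix.ProjectiveSpecialLinearGroup (Fin 2) F) →
    ∃ r s : ℕ, r.Prime ∧ s.Prime ∧ r ∣ Fintype.card F - 1 ∧ s ∣ Fintype.card F + 1 ∧
      ∃ d ∈ Cfsg.charDegrees X, r * s ∣ d

/-- 1-regularity of the degree graph -/
structure Reg (G : Type u) [Group G] : Prop where
  ex : ∀ p ∈ degreePrimes G, ∃ q, (degreeGraph G).Adj p q
  uniq : ∀ p q q', (degreeGraph G).Adj p q → (degreeGraph G).Adj p q' → q = q'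

theorem mem_of_adj {G : Type u} [Group G] {p q : ℕ} (h : (degreeGraph G).Adj p q) : p ∈ degreePrimes G := by
  obtain ⟨-, hp, -, h1⟩ := adj_iff.1 h
  exact mem_dp_iff.2 ⟨hp, im_mono h1 (Dvd.intro _ rfl)⟩

theorem reg_of {G : Type u} [Group G]
    (h1 : ∀ p ∈ degreePrimes G, Set.ncard {q : ℕ | (degreeGraph G).Adj p q} = 1) : Reg G := by
  refine ⟨fun p hp => ?_, fun p q q' h h' => ?_⟩
  · obtain ⟨a, ha⟩ := Set.ncard_eq_one.1 (h1 p hp)
    exact ⟨a, by
      have : a ∈ {q : ℕ | (degreeGraph G).Adj p q} := by rw [ha]; rfl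
      exact this⟩
  · obtain ⟨a, ha⟩ := Set.ncard_eq_one.1 (h1 p (mem_of_adj h))
    have e1 : q ∈ {q : ℕ | (degreeGraph G).Adj p q} := h
    have e2 : q' ∈ {q : ℕ | (degreeGraph G).Adj p q} := h'
    rw [ha, Set.mem_singleton_iff] at e1 e2
    rw [e1, e2]

namespace Reg

variable {G : Type u} [Group G]

theorem cliqueFree (r : Reg G) : (degreeGraph G).CliqueFree 3 := by
  intro s hs
  obtain ⟨a, b, c, hab, hac, hbc, -⟩ := SimpleGraph.is3Clique_iff.1 hs
  exact hbc.ne (r.uniq a b c hab hac)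

theorem not_three (r : Reg G) {x y w : ℕ} (hx : x ∈ degreePrimes G) (hw : w ∈ degreePrimes G)
    (hy : y ∈ degreePrimes G) (hxy : x ≠ y) (hxw : x ≠ w) (hyw : y ≠ w)
    (h : ∀ p ∈ degreePrimes G, p = x ∨ p = y ∨ p = w) : False := by
  obtain ⟨x', h1⟩ := r.ex x hx
  obtain ⟨y', h2⟩ := r.ex y hy
  obtain ⟨w', h3⟩ := r.ex w hw
  rcases h x' (mem_of_adj h1.symm) with rfl | rfl | rfl
  · exact h1.ne rfl
  · rcases h w' (mem_of_adj h3.symm) with rfl | rfl | rfl
    · exact hyw (r.uniq _ _ _ h1 h3.symm)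
    · exact hxw (r.uniq _ _ _ h1.symm h3.symm)
    · exact h3.ne rfl
  · rcases h y' (mem_of_adj h2.symm) with rfl | rfl | rfl
    · exact hyw (r.uniq _ _ _ h1 h2.symm).symm
    · exact h2.ne rfl
    · exact hxy (r.uniq _ _ _ h1.symm h2.symm)

end Reg

/-- the multiplier of `PSL(2,F)` is trivial for `|F| ≥ 8` even -/
theorem no_central {E : Type u} [Group E] [Finite E] (hperf : commutator E = ⊤) (V : Subgroup E) [V.Normal]
    (hV : V ≤ Subgroup.center E) {F : Type} [Field F] [Fintype F] (hF : Even (Fintype.card F))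
    (h4 : 4 < Fintype.card F) (e : E ⧸ V ≃* Matrix.ProjectiveSpecialLinearGroup (Fin 2) F) : V = ⊥ := by
  have hmul := S2086.result (F := F) (q := Fintype.card F) rfl 2 (le_refl 2) (fun _ => h4.le) (by
    simp only [Set.mem_insert_iff, Prod.mk.injEq, Set.mem_singleton_iff]
    rintro (⟨-, h⟩ | ⟨-, h⟩ | ⟨h, -⟩ | ⟨h, -⟩ | ⟨h, -⟩)
    · omega
    · rw [h] at hF
      exact absurd hF (by decide)
    · omega
    · omega
    · omega)
  have hg : Nat.gcd 2 (Fintype.card F - 1) = 1 := by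
    rw [← Nat.coprime_iff_gcd_eq_one, Nat.coprime_two_left]
    obtain ⟨k, hk⟩ := hF
    exact ⟨k - 1, by omega⟩
  rw [hg] at hmul
  -- move to `Type 0`
  let E0 := Shrink.{0} E
  let e0 : E0 ≃* E := Shrink.mulEquiv
  let σ : E0 →* Matrix.ProjectiveSpecialLinearGroup (Fin 2) F :=
    (e.toMonoidHom.comp (QuotientGroup.mk' V)).comp e0.toMonoidHom
  have hσ : ∀ x : E0, x ∈ σ.ker ↔ e0 x ∈ V := by
    intro x
    rw [MonoidHom.mem_ker]
    change e (QuotientGroup.mk' V (e0 x)) = 1 ↔ _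
    rw [EmbeddingLike.map_eq_one_iff, QuotientGroup.mk'_apply, QuotientGroup.eq_one_iff]
  have hst : IsStemExtension σ := by
    refine ⟨?_, ?_, ?_⟩
    · exact (e.surjective.comp (QuotientGroup.mk'_surjective V)).comp e0.surjective
    · intro x hx
      have h1 := hV ((hσ x).1 hx)
      rw [Subgroup.mem_center_iff] at h1 ⊢
      intro g
      apply e0.injective
      rw [map_mul, map_mul, h1]
    · intro x _
      have h1 : commutator E0 = ⊤ := by
        have h2 : (commutator E0).map e0.toMonoidHom = commutator E := by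
          rw [commutator_def, commutator_def, Subgroup.map_commutator,
            Subgroup.map_top_of_surjective _ e0.surjective]
        rw [hperf] at h2
        rw [eq_top_iff]
        intro y _
        have h3 : e0 y ∈ (commutator E0).map e0.toMonoidHom := by rw [h2]; trivial
        obtain ⟨z, hz, hzy⟩ := h3
        have h4 : z = y := e0.injective hzy
        rwa [← h4]
      rw [h1]
      trivial
  obtain ⟨π, hπ⟩ := hmul.2 E0 σ hst
  have hsub : Subsingleton σ.ker := by
    have : Subsingleton (Multiplicative (ZMod 1)) := inferInstanceAs (Subsingleton (ZMod 1))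
    exact hπ.subsingleton
  rw [eq_bot_iff]
  intro v hv
  have h1 : e0.symm v ∈ σ.ker := by
    rw [hσ, e0.apply_symm_apply]
    exact hv
  have h2 : (⟨e0.symm v, h1⟩ : σ.ker) = 1 := Subsingleton.elim _ _
  have h3 : e0.symm v = 1 := congrArg Subtype.val h2
  rw [Subgroup.mem_bot, ← e0.symm.map_eq_one_iff, h3]

end Cfsg.Agent.H988.DG
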