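import Cfsg.Agent.H988.DG.NonSolv

/-!
# 1-regular degree graphs: the non-solvable case, arithmetic part (helper988, TEAM DEG)
-/

set_option autoImplicit false

namespace Cfsg.Agent.H988.DG

open Cfsg Subgroup Cfsg.Agent.H33

universe u v

namespace Fr

variable {G : Type u} [Group G] [Finite G] (T : Fr G)

/-- the primes dividing `|L|` are the vertices -/
theorem dvd_L (r : Reg G) {t : ℕ} (ht : t ∈ degreePrimes G) : t ∣ Nat.card T.L := by
  by_contra hn
  have htp := ht.1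
  rcases T.mem outFact r.cliqueFree ht with h | ⟨-, h⟩
  · exact hn h
  rcases T.out_R h with ⟨p, q, hp, hq, hpq, hpd, hqd, h4⟩ | ⟨-, h5⟩
  · exact absurd r.cliqueFree (not_cliqueFree_of_dvd htp hp hq (fun h => hn (h ▸ hpd)) hpq (fun h => hn (h ▸ hqd))
      (by rwa [mul_assoc]))
  · obtain ⟨h2, p, q, hp, hq, hp2, hq2, hpq, h6, h7⟩ := primes_psl T.hF (MulEquiv.refl (Matrix.ProjectiveSpecialLinearGroup (Fin 2) T.F))
    have e2 := h5 2 h2
    have ep := h5 p h6
    have t2 : t ≠ 2 := fun h => hn (h ▸ two_dvd_card_psl T.hF)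
    have tp : t ≠ p := fun h => hn (h ▸ h6.dvd_card)
    exact hp2 (r.uniq t p 2 (adj_iff.2 ⟨tp, htp, hp, ep⟩) (adj_iff.2 ⟨t2, htp, Nat.prime_two, e2⟩))

theorem vertex {t : ℕ} (ht : t.Prime) (h : t ∣ Nat.card T.L) : t ∈ degreePrimes G :=
  mem_dp_iff.2 ⟨ht, T.im_of_L (H664.R1.PSLTwo.im_psl T.hF ht h)⟩

theorem mem_factors {t : ℕ} (ht : t.Prime) (h : t ∣ Nat.card T.L) :
    t ∣ Fintype.card T.F ∨ t ∣ Fintype.card T.F - 1 ∨ t ∣ Fintype.card T.F + 1 := by
  have h1 := primeFactors_psl_subset (F := T.F) (Nat.mem_primeFactors.2 ⟨ht, h, Nat.card_pos.ne'⟩)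
  simp only [Finset.mem_union, Nat.mem_primeFactors] at h1
  rcases h1 with h | h | h
  · exact Or.inl h.2.1
  · exact Or.inr (Or.inl h.2.1)
  · exact Or.inr (Or.inr h.2.1)

theorem not_small (r : Reg G) {x y w : ℕ} (hx : x.Prime) (hy : y.Prime) (hw : w.Prime) (hxy : x ≠ y) (hxw : x ≠ w)
    (hyw : y ≠ w) (h : (Nat.card T.L).primeFactors = {x, y, w}) : False := by
  have hm : ∀ z, z ∈ (Nat.card T.L).primeFactors → z ∈ degreePrimes G := by
    intro z hz
    rw [Nat.mem_primeFactors] at hz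
    exact T.vertex hz.1 hz.2.1
  refine r.not_three (x := x) (y := y) (w := w) (hm x ?_) (hm w ?_) (hm y ?_) hxy hxw hyw ?_
  · rw [h]; simp
  · rw [h]; simp
  · rw [h]; simp
  · intro p hp
    have h1 : p ∈ (Nat.card T.L).primeFactors := Nat.mem_primeFactors.2 ⟨hp.1, T.dvd_L r hp, Nat.card_pos.ne'⟩
    rw [h] at h1
    simpa using h1

/-- the field has even order at least 8 -/
theorem even_card (r : Reg G) : Even (Fintype.card T.F) ∧ 4 < Fintype.card T.F := by
  have h60 : Nat.card T.L = 60 → False := by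
    intro h
    refine T.not_small r Nat.prime_two Nat.prime_three Nat.prime_five (by norm_num) (by norm_num) (by norm_num) ?_
    rw [h]
    decide +kernel
  rcases Nat.even_or_odd (Fintype.card T.F) with h | h
  · refine ⟨h, lt_of_le_of_ne T.hF fun h4 => h60 ?_⟩
    have h5 := SmallSimple.PSLTwoPart.card_psl_two_even (F := T.F) h
    rw [← h4] at h5
    exact h5
  · exfalso
    by_cases h5 : Fintype.card T.F = 5
    · have h6 := SmallSimple.PSLTwoPart.card_psl_two_odd (F := T.F) h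
      rw [h5] at h6
      have h7 : Nat.card (Matrix.ProjectiveSpecialLinearGroup (Fin 2) T.F) = 60 := by omega
      exact h60 h7
    have h6 : 5 < Fintype.card T.F := by
      have := T.hF
      rcases h with ⟨k, hk⟩
      omega
    have hodd : ringChar T.F ≠ 2 := by
      intro h7
      have := FiniteField.even_card_iff_char_two.1 h7
      rw [Nat.odd_iff] at h
      omega
    have hpr : (ringChar T.F).Prime := CharP.char_is_prime T.F _
    have : Fact (ringChar T.F).Prime := ⟨hpr⟩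
    have : CharP T.F (ringChar T.F) := ringChar.charP T.F
    obtain ⟨-, hadj⟩ := S4774.result T.F (ringChar T.F) hodd (Fintype.card T.F) rfl h6 (Or.inl ⟨MulEquiv.refl _⟩)
    have hsq : Fintype.card T.F ^ 2 - 1 = (Fintype.card T.F + 1) * (Fintype.card T.F - 1) := by
      have := Nat.sq_sub_sq (Fintype.card T.F) 1
      rwa [one_pow] at this
    have hup : ∀ a b, (degreeGraph (Matrix.ProjectiveSpecialLinearGroup (Fin 2) T.F)).Adj a b → (degreeGraph G).Adj a b := by
      intro p q h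
      obtain ⟨h1, h2, h4, h5⟩ := adj_iff.1 h
      exact adj_iff.2 ⟨h1, h2, h4, T.im_of_L h5⟩
    -- all odd primes dividing `q ^ 2 - 1` are joined to 2
    have h2 : 2 ∣ Fintype.card T.F ^ 2 - 1 := by
      rw [hsq]
      obtain ⟨k, hk⟩ := h
      exact Dvd.dvd.mul_right ⟨k + 1, by omega⟩ _
    have hj : ∀ x : ℕ, x.Prime → x ≠ 2 → x ∣ Fintype.card T.F ^ 2 - 1 → (degreeGraph G).Adj 2 x := by
      intro x hx hx2 hd
      exact hup _ _ ((hadj 2 x).2 ⟨hx2.symm, Nat.prime_two, hx, h2, hd, Or.inl rfl⟩)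
    have hfac : ∀ x : ℕ, x.Prime → x ∣ Nat.card T.L → x = ringChar T.F ∨ x ∣ Fintype.card T.F ^ 2 - 1 := by
      intro x hx hd
      rcases T.mem_factors hx hd with h7 | h7 | h7
      · left
        obtain ⟨n, hp, hq⟩ := FiniteField.card T.F (ringChar T.F)
        rw [hq] at h7
        exact (Nat.prime_dvd_prime_iff_eq hx hp).1 (hx.dvd_of_dvd_pow h7)
      · right; rw [hsq]; exact h7.mul_left _
      · right; rw [hsq]; exact h7.mul_right _
    have hch : ringChar T.F ∣ Nat.card T.L := by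
      have h7 := SmallSimple.PSLTwoPart.card_psl_two_odd (F := T.F) h
      obtain ⟨n, hp, hq⟩ := FiniteField.card T.F (ringChar T.F)
      have h8 : ringChar T.F ∣ 2 * Nat.card T.L := by
        have e : 2 * Nat.card T.L = Fintype.card T.F * (Fintype.card T.F ^ 2 - 1) := by
          first
            | exact h7
            | exact h7.symm
            | (rw [mul_comm]; exact h7)
            | (rw [mul_comm]; exact h7.symm)
        rw [e, hq]
        exact Dvd.dvd.mul_right (dvd_pow_self _ n.2.ne') _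
      exact (hpr.dvd_mul.1 h8).resolve_left fun h9 => hodd ((Nat.prime_dvd_prime_iff_eq hpr Nat.prime_two).1 h9)
    have hcop : ∀ x : ℕ, x.Prime → x ∣ Fintype.card T.F ^ 2 - 1 → x ≠ ringChar T.F := by
      rintro x hx hd rfl
      obtain ⟨n, hp, hq⟩ := FiniteField.card T.F (ringChar T.F)
      have h8 : ringChar T.F ∣ Fintype.card T.F := by rw [hq]; exact dvd_pow_self _ n.2.ne'
      have h9 : ringChar T.F ∣ Fintype.card T.F ^ 2 := h8.trans (dvd_pow_self _ (by norm_num))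
      have h10 : 1 ≤ Fintype.card T.F ^ 2 := Nat.one_le_pow _ _ (by omega)
      have h11 := (Nat.dvd_sub_iff_right h10 h9).1 hd
      exact hx.one_lt.ne' (Nat.dvd_one.1 h11)
    -- an odd prime dividing `q ^ 2 - 1`
    obtain ⟨u, hu, hu2, hud⟩ : ∃ u : ℕ, u.Prime ∧ u ≠ 2 ∧ u ∣ Fintype.card T.F ^ 2 - 1 := by
      obtain ⟨-, p, q, hp, hq, hp2, hq2, hpq, h6, h7⟩ := primes_psl T.hF (MulEquiv.refl (Matrix.ProjectiveSpecialLinearGroup (Fin 2) T.F))
      rcases hfac p hp h6.dvd_card with h8 | h8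
      · rcases hfac q hq h7.dvd_card with h9 | h9
        · exact absurd (h8.trans h9.symm) hpq
        · exact ⟨q, hq, hq2, h9⟩
      · exact ⟨p, hp, hp2, h8⟩
    have h2u := hj u hu hu2 hud
    obtain ⟨p', hp'⟩ := r.ex _ (T.vertex hpr hch)
    have hp'd := T.dvd_L r (mem_of_adj hp'.symm)
    have hp'p := (mem_of_adj hp'.symm).1
    by_cases h8 : p' = 2
    · subst h8
      have h9 := r.uniq _ _ _ h2u hp'.symm
      exact hcop u hu hud h9
    · rcases hfac p' hp'p hp'd with h9 | h9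
      · exact hp'.ne h9.symm
      · have h10 := hj p' hp'p h8 h9
        exact hodd (r.uniq _ _ _ h10.symm hp'.symm).symm

/-- the arithmetic situation: `q` even, one of `q - 1`, `q + 1` is a power of the neighbour of 2 -/
theorem cross_false (r : Reg G) {x y : ℕ} (hx : x.Prime) (hy : y.Prime) (hxd : x ∣ Fintype.card T.F - 1)
    (hyd : y ∣ Fintype.card T.F + 1) : ¬ H33.IM (x * y) G := by
  intro hxy
  obtain ⟨hev, h4⟩ := T.even_card r
  have hchar : CharP T.F 2 := by
    have h6 : ringChar T.F = 2 := FiniteField.even_card_iff_char_two.2 (Nat.even_iff.1 hev)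
    rw [← h6]
    exact ringChar.charP T.F
  obtain ⟨-, hadj⟩ := S4812.result T.F (Fintype.card T.F) rfl T.hF (Or.inl ⟨MulEquiv.refl _⟩)
  have hup : ∀ a b, (degreeGraph (Matrix.ProjectiveSpecialLinearGroup (Fin 2) T.F)).Adj a b → (degreeGraph G).Adj a b := by
    intro p q h
    obtain ⟨h1, h2, h4, h5⟩ := adj_iff.1 h
    exact adj_iff.2 ⟨h1, h2, h4, T.im_of_L h5⟩
  have hodd1 : ∀ z : ℕ, z ∣ Fintype.card T.F - 1 → z ≠ 2 := by
    rintro z hz rfl
    obtain ⟨k, hk⟩ := hev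
    omega
  have hodd2 : ∀ z : ℕ, z ∣ Fintype.card T.F + 1 → z ≠ 2 := by
    rintro z hz rfl
    obtain ⟨k, hk⟩ := hev
    omega
  have hcop : ∀ z : ℕ, z.Prime → z ∣ Fintype.card T.F - 1 → ¬ z ∣ Fintype.card T.F + 1 := by
    intro z hz h1 h2
    have h3 : z ∣ 2 := by
      have := Nat.dvd_sub h2 h1
      rwa [show Fintype.card T.F + 1 - (Fintype.card T.F - 1) = 2 by omega] at this
    exact hodd1 z h1 ((Nat.prime_dvd_prime_iff_eq hz Nat.prime_two).1 h3)
  have hne : x ≠ y := by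
    rintro rfl
    exact hcop x hx hxd hyd
  have hxy' : (degreeGraph G).Adj x y := adj_iff.2 ⟨hne, hx, hy, hxy⟩
  -- the neighbour of 2
  obtain ⟨z, hz⟩ := r.ex 2 (T.vertex Nat.prime_two (two_dvd_card_psl T.hF))
  have hzp := (mem_of_adj hz.symm).1
  rcases T.mem_factors hzp (T.dvd_L r (mem_of_adj hz.symm)) with h | h | h
  · -- `z` divides `q`
    obtain ⟨n, hp, hq⟩ := FiniteField.card T.F 2
    rw [hq] at h
    exact hz.ne ((Nat.prime_dvd_prime_iff_eq hzp Nat.prime_two).1 (hzp.dvd_of_dvd_pow h)).symm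
  · -- `z ∣ q - 1`
    have hxz : x = z := by
      by_contra hxz
      have h1 := hup _ _ ((hadj x z).2 ⟨hxz, hx, hzp, Or.inr ⟨hxd, h⟩⟩)
      exact hodd1 x hxd (r.uniq _ _ _ h1.symm hz.symm)
    subst hxz
    exact hodd2 y hyd (r.uniq _ _ _ hxy' hz.symm)
  · have hyz : y = z := by
      by_contra hyz
      have h1 := hup _ _ ((hadj y z).2 ⟨hyz, hy, hzp, Or.inl ⟨hyd, h⟩⟩)
      exact hodd2 y hyd (r.uniq _ _ _ h1.symm hz.symm)
    subst hyz
    exact hodd1 x hxd (r.uniq _ _ _ hxy'.symm hz.symm)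

theorem exists_prime_sub (r : Reg G) : ∃ x : ℕ, x.Prime ∧ x ∣ Fintype.card T.F - 1 :=
  Nat.exists_prime_and_dvd (by have := (T.even_card r).2; omega)

theorem exists_prime_add (r : Reg G) : ∃ x : ℕ, x.Prime ∧ x ∣ Fintype.card T.F + 1 :=
  Nat.exists_prime_and_dvd (by have := (T.even_card r).2; omega)

/-- `G / R` is simple -/
theorem Kb_top (r : Reg G) : T.Kb = ⊤ := by
  by_contra hne
  obtain ⟨hev, h4⟩ := T.even_card r
  have h1 : T.Kb.index ≠ 1 := fun h => hne (Subgroup.index_eq_one.1 h)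
  obtain ⟨t, ht, htd⟩ := Nat.exists_prime_and_dvd h1
  obtain ⟨⟨d1, hd1, hd1'⟩, h2⟩ := (Cfsg.Agent.H714.Tri.out T.Kb T.e T.hF T.cen ht htd).2 hev
  obtain ⟨d2, hd2, hd2'⟩ := h2 h4
  have i1 : H33.IM (t * (Fintype.card T.F - 1)) G := by
    obtain ⟨χ, rfl⟩ := hd1
    exact (show H33.IM (t * (Fintype.card T.F - 1)) (G ⧸ T.R) from ⟨χ, hd1'⟩).of_quotient T.R
  have i2 : H33.IM (t * (Fintype.card T.F + 1)) G := by
    obtain ⟨χ, rfl⟩ := hd2
    exact (show H33.IM (t * (Fintype.card T.F + 1)) (G ⧸ T.R) from ⟨χ, hd2'⟩).of_quotient T.R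
  obtain ⟨x, hx, hxd⟩ := T.exists_prime_sub r
  obtain ⟨y, hy, hyd⟩ := T.exists_prime_add r
  have j1 : H33.IM (t * x) G := im_mono i1 (Nat.mul_dvd_mul_left t hxd)
  have j2 : H33.IM (t * y) G := im_mono i2 (Nat.mul_dvd_mul_left t hyd)
  by_cases h5 : t ∣ Fintype.card T.F - 1
  · exact T.cross_false r ht hy h5 hyd j2
  by_cases h6 : t ∣ Fintype.card T.F + 1
  · exact T.cross_false r hx ht hxd h6 (by rwa [mul_comm])
  have hxt : t ≠ x := fun h => h5 (h ▸ hxd)
  have hyt : t ≠ y := fun h => h6 (h ▸ hyd)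
  have h7 := r.uniq _ _ _ (adj_iff.2 ⟨hxt, ht, hx, j1⟩) (adj_iff.2 ⟨hyt, ht, hy, j2⟩)
  subst h7
  have h8 : x ∣ 2 := by
    have := Nat.dvd_sub hyd hxd
    rwa [show Fintype.card T.F + 1 - (Fintype.card T.F - 1) = 2 by omega] at this
  have h9 := (Nat.prime_dvd_prime_iff_eq hx Nat.prime_two).1 h8
  subst h9
  obtain ⟨k, hk⟩ := hev
  omega

end Fr

end Cfsg.Agent.H988.DG
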