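import Cfsg.Agent.H988.DG.SolvH
import Cfsg.Agent.H988.DG.NonSolvC
import Cfsg.Agent.H463.Deg.LemmaZ
import Cfsg.Agent.H74.EndGame

/-!
# 1-regular degree graphs (helper988, TEAM DEG)

`regular` : S4921 from `FactTri` and `Cross` (task 1729).
-/

set_option autoImplicit false

namespace Cfsg.Agent.H988.DG

open Cfsg Subgroup Cfsg.Agent.H33 Cfsg.Agent.H988.DG.Solv

universe u v

theorem lemZ : LemZ.{u, v} := by
  intro H _ _ V _ _ _ _ a b ℓ r s _ _ _ hsol hab hV hirr hUa hUb hna hnb har has hbr hbs hA hB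
  exact Cfsg.Agent.H463.Deg.lemmaZ hsol hab hV hirr hUa hUb hna hnb har has hbr hbs hA hB

theorem irrU : IrrU.{u, v} := by
  intro Γ _ _ V _ _ _ _ t s _ _ hV htΓ E _ hEi hsE hU hnt
  exact Cfsg.Agent.H74.EndGame.irr_of_unique hV htΓ E hEi hsE hU hnt

theorem endG : EndG.{u, v} := by
  intro Γ _ _ V _ _ _ _ t s _ _ hts hV hf htΓ E _ hEc hEi hsE hU hnt g halt hinv hg
  exact Cfsg.Agent.H74.EndGame.endgame hts hV hf htΓ E hEc hEi hsE hU hnt g halt hinv hg

/-- **Solvable groups**: a 1-regular degree graph has two vertices. -/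
theorem solvable_two {G : Type u} [Group G] [Finite G] (hG : Group.IsSolvable G) (r : Reg G)
    (hne : (degreePrimes G).Nonempty) : Set.ncard (degreePrimes G) = 2 := by
  obtain ⟨p, hp⟩ := hne
  obtain ⟨q, hpq⟩ := r.ex p hp
  have hq := mem_of_adj hpq.symm
  by_cases h : ∀ x ∈ degreePrimes G, x = p ∨ x = q
  · have h1 : degreePrimes G = {p, q} := by
      ext x
      constructor
      · intro hx
        exact h x hx
      · rintro (rfl | rfl)
        · exact hp
        · exact hq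
    rw [h1, Set.ncard_pair hpq.ne]
  exfalso
  push Not at h
  obtain ⟨s, hs, hsp, hsq⟩ := h
  obtain ⟨t, hst⟩ := r.ex s hs
  have ht := mem_of_adj hst.symm
  have htp : t ≠ p := by
    rintro rfl
    exact hsq (r.uniq _ _ _ hst.symm hpq)
  have htq : t ≠ q := by
    rintro rfl
    exact hsp (r.uniq _ _ _ hst.symm hpq.symm)
  have hall : ∀ x ∈ degreePrimes G, x = p ∨ x = q ∨ x = s ∨ x = t := by
    intro x hx
    by_contra hcon
    push Not at hcon
    obtain ⟨h1, h2, h3, h4⟩ := hcon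
    rcases H748.Palfy.palfy hG hp hs hx hsp.symm h3.symm h1.symm with h | h | h
    · exact hsq (r.uniq _ _ _ h hpq)
    · exact h4 (r.uniq _ _ _ h hst)
    · exact h2 (r.uniq _ _ _ h hpq)
  have : Fact p.Prime := ⟨hp.1⟩
  have : Fact q.Prime := ⟨hq.1⟩
  have : Fact s.Prime := ⟨hs.1⟩
  have : Fact t.Prime := ⟨ht.1⟩
  have hadj : ∀ d ∈ charDegrees G, ∀ x y : ℕ, x.Prime → y.Prime → x ≠ y → x ∣ d → y ∣ d → (degreeGraph G).Adj x y := by
    rintro d ⟨χ, rfl⟩ x y hx hy hxy hxd hyd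
    exact adj_iff.2 ⟨hxy, hx, hy, χ, Nat.Coprime.mul_dvd_of_dvd_of_dvd ((Nat.coprime_primes hx hy).2 hxy) hxd hyd⟩
  refine no_YC lemZ irrU endG (Nat.card G) G le_rfl (t := p) (s := q) (a := s) (b := t)
    ⟨hG, hp.2, hq.2, hs.2, ht.2, ?_, hpq.ne, hst.ne, hsp.symm, htp.symm, hsq.symm, htq.symm⟩
  intro d hd
  by_cases h1 : d = 1
  · subst h1
    left
    intro x hx hxd
    exact absurd (Nat.dvd_one.1 hxd) hx.one_lt.ne'
  obtain ⟨x, hx, hxd⟩ := Nat.exists_prime_and_dvd h1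
  have hxG : x ∈ degreePrimes G := ⟨hx, d, hd, hxd⟩
  have key : ∀ u v : ℕ, (degreeGraph G).Adj u v → x = u → ∀ y : ℕ, y.Prime → y ∣ d → y = u ∨ y = v := by
    rintro u v huv rfl y hy hyd
    by_cases hxy : x = y
    · exact Or.inl hxy.symm
    · exact Or.inr (r.uniq _ _ _ (hadj d hd x y hx hy hxy hxd hyd) huv)
  rcases hall x hxG with h2 | h2 | h2 | h2
  · exact Or.inl (key p q hpq h2)
  · exact Or.inl fun y hy hyd => (key q p hpq.symm h2 y hy hyd).symm
  · exact Or.inr (key s t hst h2)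
  · exact Or.inr fun y hy hyd => (key t s hst.symm h2 y hy hyd).symm

/-- **S4921** -/
theorem regular (hT : Cfsg.Agent.H671.H5.FactTri.{0}) (hX : Cross.{u}) {G : Type u} [Group G] [Finite G]
    (hne : (degreePrimes G).Nonempty)
    (h1 : ∀ p ∈ degreePrimes G, Set.ncard {q : ℕ | (degreeGraph G).Adj p q} = 1) :
    Set.ncard (degreePrimes G) = 2 ∧ Group.IsSolvable G := by
  have r := reg_of h1
  have hG : Group.IsSolvable G := by
    by_contra h
    exact nonsolv_false hT hX h r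
  exact ⟨solvable_two hG r hne, hG⟩

end Cfsg.Agent.H988.DG
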