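import Cfsg.Agent.H988.DG.Regular
import Cfsg.Agent.H191.CrossMain

/-!
# 1-regular degree graphs: S4921 from `FactTri` (helper988, TEAM DEG)
-/

set_option autoImplicit false

namespace Cfsg.Agent.H988.DG

open Cfsg

universe u

theorem cross : Cross.{u} := by
  intro X _ _ V _ hVc hmin hVz F _ _ hF h4 e
  exact Cfsg.Agent.H191.Cross.cross V hVc hmin hVz F hF h4 e

/-- **S4921 from `FactTri`.** -/
theorem regular_of_tri (hT : Cfsg.Agent.H671.H5.FactTri.{0}) {G : Type u} [Group G] [Finite G]
    (hne : (degreePrimes G).Nonempty)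
    (h1 : ∀ p ∈ degreePrimes G, Set.ncard {q : ℕ | (degreeGraph G).Adj p q} = 1) :
    Set.ncard (degreePrimes G) = 2 ∧ Group.IsSolvable G :=
  regular hT cross hne h1

end Cfsg.Agent.H988.DG
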