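import Cfsg.Agent.H658.Reg.TriSpor
import Cfsg.Agent.H671.GraphFin

/-!
# `FactTri` without hypotheses (uses the classification `S0000`)
-/

set_option autoImplicit false

namespace Cfsg.Agent.H988.DG

theorem factTri : Cfsg.Agent.H671.H5.FactTri.{0} :=
  Cfsg.Agent.H658.Reg.Spor.factTri_of Cfsg.Agent.H671.GraphAsm.knownAll
    Cfsg.Agent.H671.GraphAsm.herzog

end Cfsg.Agent.H988.DG
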